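import Groth.Prelude.Def_Pic13
import Groth.Agent.QCoh.FlatFibre
import Groth.Agent.Lib.Euler
import Groth.Agent.Snapper.DimVanish
import Groth.Agent.FlatBC5.Basic
import Groth.Agent.ZClosLib.CohDescent
import Mathlib.AlgebraicGeometry.AlgClosed.Basic

/-!
# The Euler characteristic in a flat family over a connected base is constant
-/

set_option backward.isDefEq.respectTransparency false
set_option backward.isDefEq.respectTransparency.types false
set_option linter.style.haveILetI false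
set_option maxHeartbeats 1000000

universe u

open CategoryTheory CategoryTheory.Limits AlgebraicGeometry TopologicalSpace Opposite
open scoped TensorProduct

namespace Groth.Agent.Pic13Lib

open Groth.Agent

section Model

variable {A : Type u} [CommRing A]

/-- The dimension of a finite flat module after a map to a field is its rank at the kernel. -/
theorem finrank_baseChange_eq_rankAtStalk (M : Type u) [AddCommGroup M] [Module A M] [Module.Flat A M]
    [Module.Finite A M] {k : Type u} [Field k] (φ : A →+* k) :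
    letI := φ.toAlgebra
    Module.finrank k (k ⊗[A] M) =
      Module.rankAtStalk M (PrimeSpectrum.comap φ (IsLocalRing.closedPoint k)) := by
  letI := φ.toAlgebra
  have h := Module.rankAtStalk_baseChange (R := A) (M := M) (S := k) (IsLocalRing.closedPoint k)
  rw [Module.rankAtStalk_eq_finrank_of_free] at h
  exact h

theorem flat_coker_one_zero (P : ChainComplex (ModuleCat.{u} A) ℤ) (hflat : ∀ i, Module.Flat A (P.X i))
    (hpos : ∀ q : ℤ, 0 < q → ∀ M : ModuleCat.{u} A, IsZero (CohIII.T P q M)) :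
    Module.Flat A (FlatCxLib.Coker P 1 0) := by
  refine (FlatCxLib.preservesEpi_iff hflat (zero_add 1)).1 ⟨fun {M N} g _ => ?_⟩
  exact ⟨fun a b _ => (show IsZero ((CohIII.TFun P 1).obj N) from hpos 1 one_pos N).eq_of_src a b⟩

theorem alt_sum_eq (h K R : ℤ → ℤ) (hh : ∀ r : ℤ, h (r + 1) + R r = K (r + 1) + K r) (N : ℕ) :
    (∑ j ∈ Finset.range (N + 1), (-1 : ℤ) ^ j * h (-(j : ℤ))) =
      K 0 + (-1 : ℤ) ^ N * K (-(N : ℤ) - 1) +
        ∑ j ∈ Finset.range (N + 1), (-1 : ℤ) ^ (j + 1) * R (-(j : ℤ) - 1) := by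
  induction N with
  | zero =>
    have := hh (-1)
    simp only [Int.reduceNeg, Int.reduceAdd] at this
    simp
    linarith
  | succ N ih =>
    rw [Finset.sum_range_succ, ih, Finset.sum_range_succ _ (N + 1)]
    have e1 : (-((N + 1 : ℕ) : ℤ)) = (-((N + 1 : ℕ) : ℤ) - 1) + 1 := by ring
    have e2 : (-(N : ℤ) - 1) = -((N + 1 : ℕ) : ℤ) := by push_cast; ring
    have := hh (-((N + 1 : ℕ) : ℤ) - 1)
    rw [← e1] at this
    rw [e2]
    have h2 : h (-((N + 1 : ℕ) : ℤ)) =
        K (-((N + 1 : ℕ) : ℤ)) + K (-((N + 1 : ℕ) : ℤ) - 1) - R (-((N + 1 : ℕ) : ℤ) - 1) := by linarith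
    rw [h2]
    ring

/-- For a bounded below complex of finite flat modules which is universally exact in positive degrees
the alternating sum of the fibre cohomology is locally constant. -/
theorem exists_locallyConstant_euler [IsNoetherianRing A] (P : ChainComplex (ModuleCat.{u} A) ℤ)
    (hfin : ∀ i, Module.Finite A (P.X i)) (hflat : ∀ i, Module.Flat A (P.X i))
    (hbdd : ∃ c : ℤ, ∀ i, i < c → IsZero (P.X i))
    (hpos : ∀ q : ℤ, 0 < q → ∀ M : ModuleCat.{u} A, IsZero (CohIII.T P q M)) :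
    ∃ N₀ : ℕ, ∀ N, N₀ ≤ N → ∃ f : PrimeSpectrum A → ℤ, IsLocallyConstant f ∧
      ∀ (k : Type u) [Field k] (φ : A →+* k),
        (∑ j ∈ Finset.range (N + 1),
          (-1 : ℤ) ^ j * (Module.finrank k ((CohIII.bcCx φ P).homology (-(j : ℤ))) : ℤ)) =
        f (PrimeSpectrum.comap φ (IsLocalRing.closedPoint k)) := by
  obtain ⟨c, hc⟩ := hbdd
  refine ⟨(-c).toNat, fun N hN => ?_⟩
  have hK := flat_coker_one_zero P hflat hpos
  have hfp : ∀ i, Module.FinitePresentation A (P.X i) := fun i =>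
    have := hfin i
    Module.finitePresentation_of_finite A _
  have hKf : Module.Finite A (FlatCxLib.Coker P 1 0) := have := hfin 0; inferInstance
  have hKp : Module.FinitePresentation A (FlatCxLib.Coker P 1 0) := Module.finitePresentation_of_finite A _
  let Rk : ℕ → PrimeSpectrum A → ℤ := fun j x => (Module.rankAtStalk (P.X (-(j : ℤ) - 1)) x : ℤ)
  refine ⟨fun x => (Module.rankAtStalk (FlatCxLib.Coker P 1 0) x : ℤ) +
    ∑ j ∈ Finset.range (N + 1), (-1 : ℤ) ^ (j + 1) * Rk j x, ?_, fun k _ φ => ?_⟩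
  · have h1 : IsLocallyConstant fun x => (Module.rankAtStalk (FlatCxLib.Coker P 1 0) x : ℤ) :=
      (Module.isLocallyConstant_rankAtStalk (R := A) (M := FlatCxLib.Coker P 1 0)).comp Nat.cast
    have h2 : ∀ s : Finset ℕ, IsLocallyConstant fun x => ∑ j ∈ s, (-1 : ℤ) ^ (j + 1) * Rk j x := by
      intro s
      induction s using Finset.induction_on with
      | empty =>
        simp only [Finset.sum_empty]
        exact IsLocallyConstant.const (0 : ℤ)
      | insert a s ha ih =>
        have := hfp (-(a : ℤ) - 1)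
        have := hflat (-(a : ℤ) - 1)
        simp only [Finset.sum_insert ha]
        exact ((Module.isLocallyConstant_rankAtStalk (R := A) (M := P.X (-(a : ℤ) - 1))).comp
          fun n => (-1 : ℤ) ^ (a + 1) * (n : ℤ)).comp₂ ih (· + ·)
    exact h1.comp₂ (h2 _) (· + ·)
  · letI := φ.toAlgebra
    let h : ℤ → ℤ := fun q => (Module.finrank k ((CohIII.bcCx φ P).homology q) : ℤ)
    let K : ℤ → ℤ := fun q => (Module.finrank k (k ⊗[A] FlatCxLib.Coker P (q + 1) q) : ℤ)
    let R : ℤ → ℤ := fun r => (Module.finrank k (k ⊗[A] P.X r) : ℤ)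
    have hh : ∀ r : ℤ, h (r + 1) + R r = K (r + 1) + K r := fun r => by
      have := FlatCxLib.finrank_homology_bcCx P φ hfin (p := r + 1 + 1) (q := r + 1) (r := r) rfl rfl _ rfl
      simp only [h, K, R]
      exact_mod_cast this
    have h0 : K (-(N : ℤ) - 1) = 0 := by
      have hz : IsZero (P.X (-(N : ℤ) - 1)) := hc _ (by omega)
      haveI := ModuleCat.subsingleton_of_isZero hz
      haveI : Subsingleton (FlatCxLib.Coker P (-(N : ℤ) - 1 + 1) (-(N : ℤ) - 1)) :=
        (Submodule.mkQ_surjective _).subsingleton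
      simp only [K]
      exact_mod_cast Module.finrank_zero_of_subsingleton
    have e0 : K 0 = (Module.rankAtStalk (FlatCxLib.Coker P 1 0)
        (PrimeSpectrum.comap φ (IsLocalRing.closedPoint k)) : ℤ) := by
      simp only [K, zero_add]
      exact_mod_cast finrank_baseChange_eq_rankAtStalk (FlatCxLib.Coker P 1 0) φ
    have eR : ∀ j : ℕ, R (-(j : ℤ) - 1) = Rk j (PrimeSpectrum.comap φ (IsLocalRing.closedPoint k)) := fun j => by
      have := hfin (-(j : ℤ) - 1)
      have := hflat (-(j : ℤ) - 1)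
      simp only [R, Rk]
      exact_mod_cast finrank_baseChange_eq_rankAtStalk (P.X (-(j : ℤ) - 1)) φ
    refine (alt_sum_eq h K R hh N).trans ?_
    rw [h0, e0, mul_zero, add_zero]
    exact congrArg _ (Finset.sum_congr rfl fun j _ => by rw [eR j])

end Model

section Family

variable {k : Type u} [Field k] {X : Scheme.{u}} [X.Over (Spec (CommRingCat.of k))]

local notation "π" => (X ↘ Spec (CommRingCat.of k))

/-- The slice over a point of the base is cartesian. -/
theorem isPullback_sliceAt {T : Scheme.{u}} (q : T ⟶ Spec (CommRingCat.of k))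
    (t : Spec (CommRingCat.of k) ⟶ T) (ht : t ≫ q = 𝟙 _) :
    IsPullback (Pic13.sliceAt k X q t ht) π (pullback.snd π q) t := by
  refine IsPullback.of_right ?_ (pullback.lift_snd _ _ _) (IsPullback.of_hasPullback π q)
  rw [show Pic13.sliceAt k X q t ht ≫ pullback.fst π q = 𝟙 X from pullback.lift_fst _ _ _, ht]
  exact IsPullback.of_horiz_isIso ⟨by simp⟩

/-- Over an affine open of the base the cohomology of the members of a flat family is computed by a finite free
complex. -/
theorem exists_fibre_model [IsProper π] {T : Scheme.{u}} (q : T ⟶ Spec (CommRingCat.of k)) [LocallyOfFiniteType q]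
    (G : (Pic13.prodK k X q).Modules) (hG : Coh.IsCoh G)
    (hfl : FlatMod.IsFlatOver (pullback.snd π q) G) {V : T.Opens} (hV : IsAffineOpen V) :
    ∃ P : ChainComplex (ModuleCat.{u} Γ(T, V)) ℤ, (∀ i, Module.Finite Γ(T, V) (P.X i)) ∧
      (∀ i, Module.Flat Γ(T, V) (P.X i)) ∧ (∃ c : ℤ, ∀ i, i < c → IsZero (P.X i)) ∧
      (∀ q : ℤ, 0 < q → ∀ M : ModuleCat.{u} Γ(T, V), IsZero (CohIII.T P q M)) ∧
      ∀ (t : Spec (CommRingCat.of k) ⟶ T) (ht : t ≫ q = 𝟙 _), t (IsLocalRing.closedPoint k) ∈ V →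
        ∃ φ : Γ(T, V) →+* k, hV.fromSpec (PrimeSpectrum.comap φ (IsLocalRing.closedPoint k)) =
            t (IsLocalRing.closedPoint k) ∧
          ∀ p : ℕ, Module.Finite k (Coh.HH X (Pic13.fibreMod k X q t ht G) p) ∧
            Module.finrank k (Coh.HH X (Pic13.fibreMod k X q t ht G) p) =
              Module.finrank k ((CohIII.bcCx φ P).homology (-(p : ℤ))) := by
  haveI : IsLocallyNoetherian T := LocallyOfFiniteType.isLocallyNoetherian q
  let A := Γ(T, V)
  haveI : IsNoetherianRing A := IsLocallyNoetherian.component_noetherian ⟨V, hV⟩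
  let XV := pullback (pullback.snd π q) hV.fromSpec
  letI : XV.Over (Spec (CommRingCat.of A)) := ⟨pullback.snd (pullback.snd π q) hV.fromSpec⟩
  haveI : IsProper (XV ↘ Spec (CommRingCat.of A)) :=
    inferInstanceAs (IsProper (pullback.snd (pullback.snd π q) hV.fromSpec))
  haveI : IsLocallyNoetherian XV := LocallyOfFiniteType.isLocallyNoetherian (XV ↘ Spec (CommRingCat.of A))
  haveI : IsLocallyNoetherian (Pic13.prodK k X q) := LocallyOfFiniteType.isLocallyNoetherian (pullback.snd π q)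
  let GV := (Scheme.Modules.pullback (pullback.fst (pullback.snd π q) hV.fromSpec)).obj G
  have hGV : Coh.IsCoh GV := ZClosLib.isCoh_pullback _ hG
  have hflV : FlatMod.IsFlatOver (XV ↘ Spec (CommRingCat.of A)) GV :=
    FlatBC5.isFlatOver_of_baseChange (IsPullback.of_hasPullback (pullback.snd π q) hV.fromSpec) hG.1 hfl
  obtain ⟨P, hP⟩ := QCoh.exists_isBCModel (A := A) GV hGV hflV
  refine ⟨P, hP.1, QCoh.flat_of_isBCModel hP, hP.2.2.1, hP.2.2.2.1, fun t ht htV => ?_⟩
  have hrange : Set.range t ⊆ Set.range hV.fromSpec := by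
    rintro _ ⟨a, rfl⟩
    rw [hV.range_fromSpec]
    exact (Subsingleton.elim (IsLocalRing.closedPoint k) a) ▸ htV
  let t' := IsOpenImmersion.lift hV.fromSpec t hrange
  have ht' : t' ≫ hV.fromSpec = t := IsOpenImmersion.lift_fac _ _ _
  let φ : A →+* k := (Spec.preimage t').hom
  have hφ : Spec.map (CommRingCat.ofHom φ) = t' := Spec.map_preimage t'
  let g : X ⟶ XV := pullback.lift (Pic13.sliceAt k X q t ht) (π ≫ t') (by
    rw [Category.assoc, ht']; exact pullback.lift_snd _ _ _)
  have hsq : IsPullback g π (XV ↘ Spec (CommRingCat.of A)) (Spec.map (CommRingCat.ofHom φ)) := by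
    rw [hφ]
    refine IsPullback.of_right ?_ (pullback.lift_snd _ _ _) (IsPullback.of_hasPullback (pullback.snd π q) hV.fromSpec)
    rw [show g ≫ pullback.fst (pullback.snd π q) hV.fromSpec = Pic13.sliceAt k X q t ht from
      pullback.lift_fst _ _ _, ht']
    exact isPullback_sliceAt q t ht
  let e : (Scheme.Modules.pullback g).obj GV ≅ Pic13.fibreMod k X q t ht G :=
    (Scheme.Modules.pullbackComp g _).app G ≪≫
      eqToIso (congrArg (fun m => (Scheme.Modules.pullback m).obj G) (pullback.lift_fst _ _ _))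
  refine ⟨φ, ?_, fun p => ?_⟩
  · exact (congrArg (fun m : Spec (CommRingCat.of k) ⟶ Spec (CommRingCat.of A) =>
      hV.fromSpec (m (IsLocalRing.closedPoint k))) hφ).trans
        (congrArg (fun m : Spec (CommRingCat.of k) ⟶ T => m (IsLocalRing.closedPoint k)) ht')
  · obtain ⟨eB⟩ := hP.2.2.2.2.2 k φ X g π hsq p
    let l := LinearEquiv.ofBijective (PnCoh.Finite.mapLin (A := k) e.hom p)
      (ConcreteCategory.bijective_of_isIso ((CohIII.HAb X p).map e.hom))
    haveI := QCoh.finite_homology_bc φ P hP.1 (-(p : ℤ))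
    exact ⟨Module.Finite.equiv (eB.symm.trans l), (l.symm.trans eB).finrank_eq⟩

/-- A point with a given value of a locally constant function has a neighbourhood of the same value. -/
theorem exists_affine_nhd {T : Scheme.{u}} {V : T.Opens} (hV : IsAffineOpen V) {x : T} (hxV : x ∈ V)
    (S : Set (Spec Γ(T, V))) (hS : IsOpen S) (hx : ∀ y, hV.fromSpec y = x → y ∈ S) :
    ∃ W : T.Opens, x ∈ W ∧ W ≤ V ∧ ∀ y, hV.fromSpec y ∈ W → y ∈ S := by
  obtain ⟨y, hy⟩ : x ∈ Set.range hV.fromSpec := by rw [hV.range_fromSpec]; exact hxV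
  refine ⟨hV.fromSpec ''ᵁ ⟨S, hS⟩, ⟨y, hx y hy, hy⟩, ?_, fun y' hy' => ?_⟩
  · rintro _ ⟨z, -, rfl⟩
    exact (hV.range_fromSpec ▸ Set.mem_range_self z : hV.fromSpec z ∈ (V : Set T))
  · obtain ⟨z, hz, hzy⟩ := hy'
    rwa [← hV.fromSpec.isOpenEmbedding.injective hzy]

/-- Near every point of the base the Euler characteristic of the members of a flat family is constant. -/
theorem exists_euler_nhd [IsProper π] (d : ℕ) (hd : topologicalKrullDim X ≤ d)
    {T : Scheme.{u}} (q : T ⟶ Spec (CommRingCat.of k)) [LocallyOfFiniteType q]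
    (G : (Pic13.prodK k X q).Modules) (hG : Coh.IsCoh G)
    (hfl : FlatMod.IsFlatOver (pullback.snd π q) G) (x : T) :
    ∃ (c : ℤ) (W : T.Opens), x ∈ W ∧ ∀ (t : Spec (CommRingCat.of k) ⟶ T) (ht : t ≫ q = 𝟙 _),
      t (IsLocalRing.closedPoint k) ∈ W →
        FGA.eulerCharLE k X (Pic13.fibreMod k X q t ht G) d = c := by
  haveI : IsLocallyNoetherian T := LocallyOfFiniteType.isLocallyNoetherian q
  obtain ⟨_, ⟨V, hV, rfl⟩, hxV, -⟩ :=
    T.isBasis_affineOpens.exists_subset_of_mem_open (Set.mem_univ x) isOpen_univ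
  haveI : IsNoetherianRing Γ(T, V) := IsLocallyNoetherian.component_noetherian ⟨V, hV⟩
  obtain ⟨P, h1, h2, h3, h4, h5⟩ := exists_fibre_model q G hG hfl hV
  obtain ⟨N₀, hN⟩ := exists_locallyConstant_euler P h1 h2 h3 h4
  obtain ⟨f, hf, hfe⟩ := hN (max N₀ d) (le_max_left _ _)
  obtain ⟨y, hy⟩ : x ∈ Set.range (IsAffineOpen.fromSpec hV) := by rw [IsAffineOpen.range_fromSpec]; exact hxV
  obtain ⟨W, hxW, hWV, hW⟩ := exists_affine_nhd hV hxV {z | f z = f y} (hf.isOpen_fiber _) fun z hz =>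
    congrArg f ((IsAffineOpen.fromSpec hV).isOpenEmbedding.injective (hz.trans hy.symm))
  refine ⟨f y, W, hxW, fun t ht htW => ?_⟩
  obtain ⟨φ, hφ, hp⟩ := h5 t ht (hWV htW)
  have hq : Coh.IsQCoh (Pic13.fibreMod k X q t ht G) := QCoh.isQCoh_pullback _ hG.1
  haveI : IsNoetherian X := CurveCohLib.isNoetherian_of_proper (k := k) (X := X)
  haveI : X.IsSeparated := ⟨by
    rw [← Limits.terminal.comp_from π]
    infer_instance⟩
  refine Eq.trans ?_ ((hfe k φ).trans (hW _ (hφ ▸ htW)))
  refine (Finset.sum_subset (Finset.range_mono (by omega : d + 1 ≤ max N₀ d + 1)) fun i _ hi => ?_).trans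
    (Finset.sum_congr rfl fun j _ => by rw [← (hp j).2])
  haveI := Snapper.subsingleton_HH_of_dim_le hd hq (i := i) (by simp at hi; omega)
  rw [Module.finrank_zero_of_subsingleton]
  simp

omit [X.Over (Spec (CommRingCat.of k))] in
/-- The rank of the fibre at a rational point is the rank at the underlying point. -/
theorem finrank_homology_bc_eq_dRank {A : Type u} [CommRing A] (P : ChainComplex (ModuleCat.{u} A) ℤ)
    (φ : A →+* k) (q : ℤ) : Module.finrank k ((CohIII.bcCx φ P).homology q) =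
      CohIII.dRank P q (PrimeSpectrum.comap φ (IsLocalRing.closedPoint k)) := by
  set x := PrimeSpectrum.comap φ (IsLocalRing.closedPoint k)
  have hx : x.asIdeal = RingHom.ker φ := by
    show Ideal.comap φ (IsLocalRing.maximalIdeal k) = _
    rw [IsLocalRing.maximalIdeal_eq_bot]
    rfl
  let ψ : x.asIdeal.ResidueField →+* k := Ideal.ResidueField.lift x.asIdeal φ hx.le fun a ha =>
    isUnit_iff_ne_zero.2 fun h => ha (hx.ge h)
  have hψ : ψ.comp (algebraMap A x.asIdeal.ResidueField) = φ := by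
    ext a; exact Ideal.ResidueField.lift_algebraMap _ _ hx.le (fun a ha => isUnit_iff_ne_zero.2 fun h => ha (hx.ge h)) a
  let e : CohIII.bcCx φ P ≅ CohIII.bcCx ψ (CohIII.bcCx (algebraMap A x.asIdeal.ResidueField) P) :=
    (NatIso.mapHomologicalComplex (eqToIso (congrArg ModuleCat.extendScalars hψ.symm) ≪≫
      ModuleCat.extendScalarsComp (algebraMap A x.asIdeal.ResidueField) ψ) _).app P
  exact ((HomologicalComplex.homologyFunctor _ _ q).mapIso e).toLinearEquiv.finrank_eq.trans
    (FlatCxLib.finrank_homology_extendScalars_field ψ _ q)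

/-- The vanishing of a cohomology group spreads to nearby members of a flat family. -/
theorem exists_vanishing_nhd [IsProper π] {T : Scheme.{u}} (q : T ⟶ Spec (CommRingCat.of k))
    [LocallyOfFiniteType q] (G : (Pic13.prodK k X q).Modules) (hG : Coh.IsCoh G)
    (hfl : FlatMod.IsFlatOver (pullback.snd π q) G) (p : ℕ) (t₀ : Spec (CommRingCat.of k) ⟶ T)
    (ht₀ : t₀ ≫ q = 𝟙 _) (h : Subsingleton (Coh.HH X (Pic13.fibreMod k X q t₀ ht₀ G) p)) :
    ∃ W : T.Opens, t₀ (IsLocalRing.closedPoint k) ∈ W ∧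
      ∀ (t : Spec (CommRingCat.of k) ⟶ T) (ht : t ≫ q = 𝟙 _), t (IsLocalRing.closedPoint k) ∈ W →
        Subsingleton (Coh.HH X (Pic13.fibreMod k X q t ht G) p) := by
  haveI : IsLocallyNoetherian T := LocallyOfFiniteType.isLocallyNoetherian q
  obtain ⟨_, ⟨V, hV, rfl⟩, hxV, -⟩ :=
    T.isBasis_affineOpens.exists_subset_of_mem_open (Set.mem_univ (t₀ (IsLocalRing.closedPoint k))) isOpen_univ
  haveI : IsNoetherianRing Γ(T, V) := IsLocallyNoetherian.component_noetherian ⟨V, hV⟩
  obtain ⟨P, h1, h2, -, -, h5⟩ := exists_fibre_model q G hG hfl hV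
  have hfp : ∀ i, Module.FinitePresentation Γ(T, V) (P.X i) := fun i =>
    have := h1 i
    Module.finitePresentation_of_finite Γ(T, V) _
  obtain ⟨φ₀, hφ₀, hp₀⟩ := h5 t₀ ht₀ hxV
  have h0 : CohIII.dRank P (-(p : ℤ)) (PrimeSpectrum.comap φ₀ (IsLocalRing.closedPoint k)) = 0 := by
    rw [← finrank_homology_bc_eq_dRank, ← (hp₀ p).2]
    exact Module.finrank_zero_of_subsingleton
  have hopen : IsOpen {z : PrimeSpectrum Γ(T, V) | CohIII.dRank P (-(p : ℤ)) z < 1} :=
    (FlatCxLib.upperSemicontinuous_dRank P hfp h2 _).isOpen_preimage 1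
  obtain ⟨W, hxW, hWV, hW⟩ := exists_affine_nhd hV hxV _ hopen fun z hz => by
    obtain rfl := (IsAffineOpen.fromSpec hV).isOpenEmbedding.injective (hz.trans hφ₀.symm)
    show _ < 1
    omega
  refine ⟨W, hxW, fun t ht htW => ?_⟩
  obtain ⟨φ, hφ, hp⟩ := h5 t ht (hWV htW)
  haveI := (hp p).1
  refine Module.finrank_zero_iff.1 ((hp p).2.trans ?_)
  rw [finrank_homology_bc_eq_dRank]
  have : CohIII.dRank P (-(p : ℤ)) _ < 1 := hW _ (hφ ▸ htW)
  omega

/-- The Euler characteristic is constant along a flat family over a connected base. -/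
theorem euler_fibre_eq [IsAlgClosed k] [IsProper π] (d : ℕ) (hd : topologicalKrullDim X ≤ d)
    {T : Scheme.{u}} (q : T ⟶ Spec (CommRingCat.of k)) [LocallyOfFiniteType q] [ConnectedSpace T]
    (G : (Pic13.prodK k X q).Modules) (hG : Coh.IsCoh G) (hfl : FlatMod.IsFlatOver (pullback.snd π q) G)
    (t t' : Spec (CommRingCat.of k) ⟶ T) (ht : t ≫ q = 𝟙 _) (ht' : t' ≫ q = 𝟙 _) :
    FGA.eulerCharLE k X (Pic13.fibreMod k X q t ht G) d =
      FGA.eulerCharLE k X (Pic13.fibreMod k X q t' ht' G) d := by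
  haveI : JacobsonSpace T := LocallyOfFiniteType.jacobsonSpace q
  let Good : ℤ → T.Opens → Prop := fun c W => ∀ (s : Spec (CommRingCat.of k) ⟶ T) (hs : s ≫ q = 𝟙 _),
    s (IsLocalRing.closedPoint k) ∈ W → FGA.eulerCharLE k X (Pic13.fibreMod k X q s hs G) d = c
  let U : ℤ → Set T := fun c => {x | ∃ W : T.Opens, x ∈ W ∧ Good c W}
  have hopen : ∀ c, IsOpen (U c) := fun c =>
    isOpen_iff_forall_mem_open.2 fun x ⟨W, hxW, hW⟩ => ⟨W, fun y hy => ⟨W, hy, hW⟩, W.2, hxW⟩
  have hdisj : ∀ c c', ∀ x ∈ U c, x ∈ U c' → c = c' := by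
    rintro c c' x ⟨W, hxW, hW⟩ ⟨W', hxW', hW'⟩
    have hne : ((W ⊓ W' : T.Opens) : Set T).Nonempty := ⟨x, hxW, hxW'⟩
    obtain ⟨p, hp, hpc⟩ := nonempty_inter_closedPoints hne (W ⊓ W').2.isLocallyClosed
    have e := pointOfClosedPoint_apply q p hpc (IsLocalRing.closedPoint k)
    exact (hW _ (pointOfClosedPoint_comp q p hpc) (by rw [e]; exact hp.1)).symm.trans
      (hW' _ (pointOfClosedPoint_comp q p hpc) (by rw [e]; exact hp.2))
  have hcov : ∀ x : T, ∃ c, x ∈ U c := fun x =>
    let ⟨c, W, hxW, hW⟩ := exists_euler_nhd d hd q G hG hfl x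
    ⟨c, W, hxW, hW⟩
  obtain ⟨c, hc⟩ := hcov (t (IsLocalRing.closedPoint k))
  have hclopen : IsClopen (U c) := by
    refine ⟨isOpen_compl_iff.1 (isOpen_iff_forall_mem_open.2 fun x hx => ?_), hopen c⟩
    obtain ⟨c', hc'⟩ := hcov x
    exact ⟨U c', fun y hy hy' => hx (hdisj c' c y hy hy' ▸ hc'), hopen c', hc'⟩
  have huniv : U c = Set.univ := hclopen.eq_univ ⟨_, hc⟩
  have val : ∀ (s : Spec (CommRingCat.of k) ⟶ T) (hs : s ≫ q = 𝟙 _),
      FGA.eulerCharLE k X (Pic13.fibreMod k X q s hs G) d = c := fun s hs => by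
    obtain ⟨W, hsW, hW⟩ : s (IsLocalRing.closedPoint k) ∈ U c := huniv ▸ Set.mem_univ _
    exact hW s hs hsW
  rw [val t ht, val t' ht']

end Family

end Groth.Agent.Pic13Lib
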