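import Groth.Agent.Lib.ProjRegularPn
import Groth.Agent.KFlatLib.Scheme.ProjModule
import Groth.Agent.AmpleVan.ThickPush
import Groth.Agent.PnCoh.PushNat
import Groth.Agent.QCoh.Support
import Groth.Agent.HilbPoly.Poly
import Groth.Agent.CurveCohLib.Rank
import Groth.Agent.AmpleX.Generated
import Groth.Prelude.Def_Pic13
import Groth.Prelude.Def_PicLoc

/-!
# Closed subschemes of projective space: twists and their cohomology
-/

set_option linter.style.haveILetI false
set_option linter.unusedSectionVars false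
set_option backward.isDefEq.respectTransparency false
set_option backward.isDefEq.respectTransparency.types false

universe u

open CategoryTheory CategoryTheory.Limits AlgebraicGeometry TopologicalSpace Opposite

noncomputable section

namespace Groth.Agent.Pic13Lib

open Groth.Agent Groth.Agent.PnCoh Groth.Agent.PnCoh.Finite

theorem isLocallyNoetherian_projSpace (k : Type u) [Field k] (n : ℕ) :
    IsLocallyNoetherian (CohB1.ProjSpace n k) :=
  PnCoh.Finite.isLocallyNoetherian_projSpace n k

theorem isInvertible_twistProjSpace (k : Type u) [Field k] (n : ℕ) (d : ℤ) :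
    PicF.IsInvertible (Twist.twistProjSpace n k d) :=
  isInvertible_twist (ProjRegular.coords k n) ProjRegular.coords_mem ProjRegular.coords_cover d

theorem twistProjSpace_tensor (k : Type u) [Field k] (n : ℕ) (a b : ℤ) :
    Nonempty (CohB1.tensorMod (Twist.twistProjSpace n k a) (Twist.twistProjSpace n k b) ≅
      Twist.twistProjSpace n k (a + b)) :=
  twist_tensor_iso (ProjRegular.coords k n) ProjRegular.coords_mem ProjRegular.coords_cover a b

theorem twistProjSpace_zero (k : Type u) [Field k] (n : ℕ) :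
    Nonempty (Coh.structureModule (CohB1.ProjSpace n k) ≅ Twist.twistProjSpace n k 0) :=
  ⟨@asIso _ _ _ _ _
    (isIso_oneHom (ProjRegular.coords k n) ProjRegular.coords_mem ProjRegular.coords_cover)⟩

variable {k : Type u} [Field k] {n : ℕ} {X : Scheme.{u}} (i : X ⟶ CohB1.ProjSpace n k)

/-- `i^* O(d)`. -/
abbrev oX (d : ℤ) : X.Modules := (Scheme.Modules.pullback i).obj (Twist.twistProjSpace n k d)

theorem isInvertible_oX (d : ℤ) : PicF.IsInvertible (oX i d) :=
  PicLoc.isInvertible_pullback i (isInvertible_twistProjSpace k n d)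

theorem oX_zero : Nonempty (Coh.structureModule X ≅ oX i 0) :=
  ⟨(PicLoc.pullbackStructureIso i).symm ≪≫
    (Scheme.Modules.pullback i).mapIso (twistProjSpace_zero k n).some⟩

theorem oX_add (a b : ℤ) : Nonempty (CohB1.tensorMod (oX i a) (oX i b) ≅ oX i (a + b)) :=
  ⟨(((KFlatLib.pullTensorBiIso i).app (Twist.twistProjSpace n k a)).app
      (Twist.twistProjSpace n k b)).symm ≪≫
    (Scheme.Modules.pullback i).mapIso (twistProjSpace_tensor k n a b).some⟩

theorem twistOn_zero (F : X.Modules) : Nonempty (Pic13.twistOn k i F 0 ≅ F) :=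
  ⟨(DCoh.tensorBi.obj F).mapIso (oX_zero i).some.symm ≪≫ AmpleVan.twUnit.app F⟩

theorem twistOn_twistOn (F : X.Modules) (a b : ℤ) :
    Nonempty (Pic13.twistOn k i (Pic13.twistOn k i F a) b ≅ Pic13.twistOn k i F (a + b)) :=
  ProjRegular.tensor_assoc_iso F (oX i a) (oX i b) (oX i (a + b)) (oX_add i a b).some

theorem twistOn_congr {F G : X.Modules} (e : F ≅ G) (d : ℤ) :
    Nonempty (Pic13.twistOn k i F d ≅ Pic13.twistOn k i G d) :=
  ⟨(DCoh.tensorBi.mapIso e).app _⟩

theorem isCoh_twistOn [IsLocallyNoetherian X] {F : X.Modules} (hF : Coh.IsCoh F) (d : ℤ) :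
    Coh.IsCoh (Pic13.twistOn k i F d) :=
  AmpleVan.isCoh_tensor hF (AmpleVan.isCoh_invertible (isInvertible_oX i d))

variable [IsClosedImmersion i]

include i in
theorem isLocallyNoetherian_of_closed : IsLocallyNoetherian X :=
  haveI := isLocallyNoetherian_projSpace k n
  LocallyOfFiniteType.isLocallyNoetherian i

/-- `i_* F`. -/
abbrev pushP (F : X.Modules) : (CohB1.ProjSpace n k).Modules := (Scheme.Modules.pushforward i).obj F

theorem isCoh_pushP {F : X.Modules} (hF : Coh.IsCoh F) : Coh.IsCoh (pushP i F) :=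
  haveI := isLocallyNoetherian_projSpace k n
  QCoh.isCoh_pushforward_finite i hF

/-- The projection formula. -/
theorem pushP_twistOn (F : X.Modules) (d : ℤ) :
    Nonempty (CohB1.tensorMod (pushP i F) (Twist.twistProjSpace n k d) ≅
      pushP i (Pic13.twistOn k i F d)) :=
  ⟨@asIso _ _ _ _ _
    (KFlatLib.isIso_projMod_of_isClosedImmersion i F (Twist.twistProjSpace n k d))⟩

theorem subsingleton_HH_pushP {M : X.Modules} (hM : Coh.IsQCoh M) (q : ℕ) :
    Subsingleton (Coh.HH (CohB1.ProjSpace n k) (pushP i M) q) ↔ Subsingleton (Coh.HH X M q) := by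
  letI : X.Over (Spec (CommRingCat.of k)) := ⟨i ≫ (CohB1.ProjSpace n k ↘ Spec (CommRingCat.of k))⟩
  obtain ⟨e⟩ := exists_linearEquiv_push k i rfl hM q
  exact e.toEquiv.subsingleton_congr.symm

theorem subsingleton_HH_twistOn {F : X.Modules} (hF : Coh.IsCoh F) (d : ℤ) (q : ℕ) :
    Subsingleton (Coh.HH X (Pic13.twistOn k i F d) q) ↔
      Subsingleton (Coh.HH (CohB1.ProjSpace n k)
        (CohB1.tensorMod (pushP i F) (Twist.twistProjSpace n k d)) q) := by
  haveI := isLocallyNoetherian_of_closed i
  obtain ⟨e⟩ := pushP_twistOn i F d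
  rw [← subsingleton_HH_pushP i (isCoh_twistOn i hF d).1]
  exact ⟨fun h => QCoh.subsingleton_HH_of_iso e.symm q h, fun h => QCoh.subsingleton_HH_of_iso e q h⟩

/-- Linear comparison of cohomology with the ambient space. -/
theorem exists_linearEquiv_twistOn [X.Over (Spec (CommRingCat.of k))]
    (hi : i ≫ CohB1.ProjSpace.toSpec n k = X ↘ Spec (CommRingCat.of k))
    {F : X.Modules} (hF : Coh.IsCoh F) (d : ℤ) (q : ℕ) :
    Nonempty (Coh.HH X (Pic13.twistOn k i F d) q ≃ₗ[k]
      Coh.HH (CohB1.ProjSpace n k) (CohB1.tensorMod (pushP i F) (Twist.twistProjSpace n k d)) q) := by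
  haveI := isLocallyNoetherian_of_closed i
  obtain ⟨e⟩ := pushP_twistOn i F d
  obtain ⟨l⟩ := exists_linearEquiv_push k i hi (isCoh_twistOn i hF d).1 q
  exact ⟨l.trans (CurveCohLib.hhEquiv (k := k) e.symm q)⟩

theorem isGloballyGenerated_of_pullback {Y : Scheme.{u}} (f : X ⟶ Y) {M : Y.Modules}
    (h : Curv2.IsGloballyGenerated M) :
    Curv2.IsGloballyGenerated ((Scheme.Modules.pullback f).obj M) := by
  obtain ⟨ι, p, hp⟩ := h
  haveI : PreservesColimitsOfSize.{u, u} (Scheme.Modules.pullback f) :=
    (Scheme.Modules.pullbackPushforwardAdjunction f).leftAdjoint_preservesColimits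
  haveI : Epi ((Scheme.Modules.pullback f).map p) := inferInstance
  exact ⟨ι, (PreservesCoproduct.iso (Scheme.Modules.pullback f) (fun _ : ι => Coh.structureModule Y) ≪≫
      Sigma.mapIso (fun _ : ι => PicLoc.pullbackStructureIso f)).inv ≫
    (Scheme.Modules.pullback f).map p, epi_comp _ _⟩

theorem isGloballyGenerated_of_pushP {M : X.Modules} (hM : Coh.IsQCoh M)
    (h : Curv2.IsGloballyGenerated (pushP i M)) : Curv2.IsGloballyGenerated M := by
  haveI := AmpleVan.isIso_counit i hM
  exact AmpleX.isGloballyGenerated_of_iso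
    (asIso ((Scheme.Modules.pullbackPushforwardAdjunction i).counit.app M))
    (isGloballyGenerated_of_pullback i h)

/-- Regularity can be read on the ambient space. -/
theorem isMRegular_iff {F : X.Modules} (hF : Coh.IsCoh F) (m : ℤ) :
    Pic13.IsMRegular k i F m ↔ Curv2.IsMRegular k n (pushP i F) m := by
  refine ⟨fun h q hq _ => (subsingleton_HH_twistOn i hF _ q).1 (h q hq), fun h q hq => ?_⟩
  refine (subsingleton_HH_twistOn i hF _ q).2 ?_
  rcases le_or_gt q n with hn | hn
  · exact h q hq hn
  · exact ProjRegular.subsingleton_HH_high (isCoh_pushP i hF) _ q hn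

/-- Regularity propagates. -/
theorem isMRegular_of_le {F : X.Modules} (hF : Coh.IsCoh F) {m m' : ℤ}
    (h : Pic13.IsMRegular k i F m) (hm : m ≤ m') : Pic13.IsMRegular k i F m' := by
  obtain ⟨e, rfl⟩ : ∃ e : ℕ, m' = m + e := ⟨(m' - m).toNat, by omega⟩
  exact (isMRegular_iff i hF _).2
    (ProjRegular.isMRegular_add (isCoh_pushP i hF) ((isMRegular_iff i hF m).1 h) e)

theorem isGloballyGenerated_twistOn {F : X.Modules} (hF : Coh.IsCoh F) {m : ℤ}
    (h : Pic13.IsMRegular k i F m) : Curv2.IsGloballyGenerated (Pic13.twistOn k i F m) := by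
  haveI := isLocallyNoetherian_of_closed i
  have hP := isCoh_pushP i hF
  obtain ⟨e⟩ := pushP_twistOn i F m
  refine isGloballyGenerated_of_pushP i (isCoh_twistOn i hF m).1
    (AmpleX.isGloballyGenerated_of_iso e ?_)
  exact ProjRegular.isGloballyGenerated ProjRegular.coords_mem ProjRegular.coords_cover
    ProjRegular.coords_noetherian (ProjRegular.good_twistBy hP m)
    (ProjRegular.reg0_of_isMRegular hP ((isMRegular_iff i hF m).1 h))

/-- Vanishing of higher cohomology of twists of a regular module. -/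
theorem subsingleton_HH_of_isMRegular {F : X.Modules} (hF : Coh.IsCoh F) {m : ℤ}
    (h : Pic13.IsMRegular k i F m) {q : ℕ} (hq : 1 ≤ q) {d : ℤ} (hd : m - q ≤ d) :
    Subsingleton (Coh.HH X (Pic13.twistOn k i F d) q) := by
  have h' := isMRegular_of_le i hF h (m' := d + q) (by omega) q hq
  rwa [show d + (q : ℤ) - q = d by omega] at h'

end Groth.Agent.Pic13Lib
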