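import Groth.Agent.Pic13Lib.Closed
import Groth.Agent.SurfInt.Basic
import Groth.Agent.S10829
import Groth.Agent.S2122
import Mathlib.RingTheory.Binomial

/-!
# Hilbert coefficients as intersection numbers
-/

set_option linter.style.haveILetI false
set_option linter.unusedSectionVars false
set_option backward.isDefEq.respectTransparency false
set_option backward.isDefEq.respectTransparency.types false
set_option maxHeartbeats 1000000

universe u

open CategoryTheory CategoryTheory.Limits AlgebraicGeometry TopologicalSpace Opposite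

namespace Groth.Agent.Pic13Lib

open Groth.Agent
open scoped Groth.Agent.H23.PicMul

/-- Iterated backward differences. -/
def bdiff : ℕ → (ℤ → ℤ) → ℤ → ℤ
  | 0, f, x => f x
  | r + 1, f, x => bdiff r f x - bdiff r f (x - 1)

theorem bdiff_sum {ι : Type*} (s : Finset ι) (a : ι → ℤ) (f : ι → ℤ → ℤ) :
    ∀ (r : ℕ) (x : ℤ), bdiff r (fun y => ∑ j ∈ s, a j * f j y) x = ∑ j ∈ s, a j * bdiff r (f j) x
  | 0, x => rfl
  | r + 1, x => by
    rw [bdiff, bdiff_sum s a f r x, bdiff_sum s a f r (x - 1), ← Finset.sum_sub_distrib]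
    exact Finset.sum_congr rfl fun j _ => by rw [bdiff, mul_sub]

theorem bdiff_sub (f g : ℤ → ℤ) : ∀ (r : ℕ) (x : ℤ), bdiff r (fun y => f y - g y) x = bdiff r f x - bdiff r g x
  | 0, x => rfl
  | r + 1, x => by simp only [bdiff, bdiff_sub f g r]; ring

theorem bdiff_eq_last (f : ℤ → ℤ) : ∀ (r : ℕ) (x : ℤ), (∀ i : ℕ, i < r → f (x - i) = 0) →
    bdiff r f x = (-1) ^ r * f (x - r)
  | 0, x, _ => by simp [bdiff]
  | r + 1, x, h => by
    rw [bdiff, bdiff_eq_last f r x fun i hi => h i (hi.trans (Nat.lt_succ_self r)), h r (Nat.lt_succ_self r),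
      bdiff_eq_last f r (x - 1) fun i hi => by
        rw [show x - 1 - (i : ℤ) = x - ((i + 1 : ℕ) : ℤ) by push_cast; ring]
        exact h (i + 1) (Nat.succ_lt_succ hi)]
    rw [show x - 1 - (r : ℤ) = x - ((r + 1 : ℕ) : ℤ) by push_cast; ring, pow_succ]
    ring

theorem bdiff_choose (j : ℕ) : ∀ (r : ℕ) (x : ℤ), bdiff r (fun y => Ring.choose (y + j) j) x =
    if r ≤ j then Ring.choose (x + (j : ℤ) - r) (j - r) else 0
  | 0, x => by simp [bdiff]
  | r + 1, x => by
    rw [bdiff, bdiff_choose j r x, bdiff_choose j r (x - 1)]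
    rcases Nat.lt_trichotomy r j with h | h | h
    · obtain ⟨m, rfl⟩ : ∃ m, j = r + 1 + m := ⟨j - r - 1, by omega⟩
      rw [if_pos (by omega), if_pos (by omega), if_pos (by omega), show r + 1 + m - r = m + 1 by omega,
        show r + 1 + m - (r + 1) = m by omega]
      have e := Ring.choose_succ_succ (x + (m : ℤ)) m
      push_cast
      rw [show x + ((r : ℤ) + 1 + m) - r = x + m + 1 by ring, show x - 1 + ((r : ℤ) + 1 + m) - r = x + m by ring,
        show x + ((r : ℤ) + 1 + m) - ((r : ℤ) + 1) = x + m by ring, e]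
      ring
    · subst h
      rw [if_pos le_rfl, if_pos le_rfl, if_neg (by omega)]
      simp
    · rw [if_neg (by omega), if_neg (by omega), if_neg (by omega)]
      simp

/-- A combination of binomial functions. -/
noncomputable def binComb {t : ℕ} (a : Fin t → ℤ) (y : ℤ) : ℤ :=
  ∑ j : Fin t, a j * Ring.choose (y + ((j : ℕ) : ℤ)) (j : ℕ)

theorem bdiff_binComb {t : ℕ} (a : Fin t → ℤ) (r : ℕ) :
    bdiff r (binComb a) 0 = ∑ j : Fin t, if r ≤ (j : ℕ) then a j else 0 := by
  show bdiff r (fun y => ∑ j : Fin t, a j * Ring.choose (y + ((j : ℕ) : ℤ)) (j : ℕ)) 0 = _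
  rw [bdiff_sum]
  refine Finset.sum_congr rfl fun j _ => ?_
  rw [bdiff_choose]
  split_ifs with h
  · rw [zero_add, show ((j : ℕ) : ℤ) - r = (((j : ℕ) - r : ℕ) : ℤ) by omega, Ring.choose_natCast]
    simp
  · simp

/-- A function killed by a difference operator is determined by its values at the naturals. -/
theorem eq_of_bdiff_eq_zero {t : ℕ} (a : Fin t → ℤ) (f : ℤ → ℤ) (hf : ∀ x, bdiff t f x = 0)
    (h : ∀ m : ℕ, f m = binComb a m) : f = binComb a := by
  have hg : ∀ x, bdiff t (binComb a) x = 0 := fun x => by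
    show bdiff t (fun y => ∑ j : Fin t, a j * Ring.choose (y + ((j : ℕ) : ℤ)) (j : ℕ)) x = 0
    rw [bdiff_sum]
    exact Finset.sum_eq_zero fun j _ => by rw [bdiff_choose, if_neg (by omega), mul_zero]
  have key : ∀ (e : ℕ) (y : ℤ), -(e : ℤ) ≤ y → f y - binComb a y = 0 := by
    intro e
    induction e with
    | zero =>
      intro y hy
      obtain ⟨m, rfl⟩ : ∃ m : ℕ, y = m := ⟨y.toNat, by omega⟩
      rw [h, sub_self]
    | succ e ih =>
      intro y hy
      rcases eq_or_lt_of_le hy with hy' | hy'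
      · have hd := bdiff_eq_last (fun z => f z - binComb a z) t (y + t) fun i hi => ih _ (by push_cast at hy'; omega)
        rw [bdiff_sub, hf, hg, sub_zero, add_sub_cancel_right] at hd
        rcases mul_eq_zero.1 hd.symm with hc | hc
        · exact absurd hc (pow_ne_zero _ (by norm_num))
        · exact hc
      · exact ih y (by push_cast at hy' ⊢; omega)
  funext y
  exact sub_eq_zero.1 (key (-y).toNat y (by omega))

variable {k : Type u} [Field k] {n : ℕ} {X : Scheme.{u}} [X.Over (Spec (CommRingCat.of k))]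
  (i : X ⟶ CohB1.ProjSpace n k) [IsClosedImmersion i]

local notation "π" => (X ↘ Spec (CommRingCat.of k))

variable (k) in
/-- `χ(F(d))`. -/
noncomputable def chiTwist (F : X.Modules) (d : ℤ) : ℤ := Curv2.euler k X (Pic13.twistOn k i F d)

theorem chiCl_twist_mul (F : X.Modules) (d : ℤ) (x : PicF.Cl X) :
    SurfInt.chiCl k (Pic13.twistOn k i F d) (PicF.cl (oX i (-1)) * x) =
      SurfInt.chiCl k (Pic13.twistOn k i F (d - 1)) x := by
  obtain ⟨e⟩ := twistOn_twistOn i F d (-1)
  have e' : CohB1.tensorMod (oX i (-1)) (Pic13.twistOn k i F d) ≅ Pic13.twistOn k i F (d - 1) :=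
    (H23.PicMul.comm _ _).some ≪≫ e ≪≫ eqToIso (by rw [sub_eq_add_neg])
  rw [← SurfInt.chiCl_congr k e', SurfInt.chiCl_tensor]

theorem dn_eq_bdiff (F : X.Modules) : ∀ (r : ℕ) (d : ℤ),
    SurfInt.dn (SurfInt.chiCl k (Pic13.twistOn k i F d)) (fun _ : Fin r => PicF.cl (oX i (-1))) =
      bdiff r (chiTwist k i F) d
  | 0, d => by rw [SurfInt.dn_zero, SurfInt.chiCl_one]; rfl
  | r + 1, d => by
    rw [SurfInt.dn_succ, dn_eq_bdiff F r d, bdiff, ← dn_eq_bdiff F r (d - 1),
      show (fun x => SurfInt.chiCl k (Pic13.twistOn k i F d) (PicF.cl (oX i (-1)) * x)) =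
        SurfInt.chiCl k (Pic13.twistOn k i F (d - 1)) from funext fun x => chiCl_twist_mul i F d x]

theorem dn_eq_bdiff_zero (F : X.Modules) (r : ℕ) :
    SurfInt.dn (SurfInt.chiCl k F) (fun _ : Fin r => PicF.cl (oX i (-1))) = bdiff r (chiTwist k i F) 0 := by
  rw [← dn_eq_bdiff i F r 0, SurfInt.chiCl_congr k (twistOn_zero i F).some]

theorem dn_cl_eq_zero [IsProper π] {r : ℕ} {F : X.Modules} (hF : Coh.IsCoh F) {d : ℕ} (hd : topologicalKrullDim X ≤ d)
    (hr : d < r) {M : Fin r → X.Modules} (hM : ∀ a, PicF.IsInvertible (M a)) :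
    SurfInt.dn (SurfInt.chiCl k F) (fun a => PicF.cl (M a)) = 0 :=
  SurfInt.dn_chiCl_eq_zero k hM hF (lt_of_le_of_lt (SurfInt.dim_support_le hd F) (by exact_mod_cast hr))

theorem chiTwist_eq_binComb [IsProper π] [IsLocallyNoetherian X] {F : X.Modules} (hF : Coh.IsCoh F) {s : ℕ}
    (hd : topologicalKrullDim X ≤ (s : WithBot ℕ∞)) (a : Fin (s + 1) → ℤ)
    (ha : ∀ m : ℕ, FGA.eulerCharLE k X (Pic13.twistOn k i F m) s = ∑ j : Fin (s + 1), a j * ((m + j).choose j : ℤ)) :
    chiTwist k i F = binComb a := by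
  refine eq_of_bdiff_eq_zero a _ (fun x => ?_) fun m => ?_
  · rw [← dn_eq_bdiff]
    exact dn_cl_eq_zero (isCoh_twistOn i hF x) hd (Nat.lt_succ_self s) fun _ => isInvertible_oX i _
  · show Curv2.euler k X _ = _
    rw [← SurfInt.eulerCharLE_eq_euler k hd (isCoh_twistOn i hF _).1, ha m]
    exact Finset.sum_congr rfl fun j _ => by
      rw [← Nat.cast_add, Ring.choose_natCast]

/-- The two top Hilbert coefficients. -/
theorem hilbertCoeff_top [IsProper π] (s : ℕ) (hdim : topologicalKrullDim X ≤ ((s + 1 : ℕ) : WithBot ℕ∞))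
    {L L' : X.Modules} (hL : PicF.IsInvertible L) (hLL' : Nonempty (CohB1.tensorMod L L' ≅ Coh.structureModule X))
    (a e : Fin (s + 2) → ℤ)
    (ha : ∀ m : ℕ, FGA.eulerCharLE k X (Pic13.twistOn k i L m) (s + 1) = ∑ j : Fin (s + 2), a j * ((m + j).choose j : ℤ))
    (he : ∀ m : ℕ, FGA.eulerCharLE k X (Pic13.twistOn k i (Coh.structureModule X) m) (s + 1) =
      ∑ j : Fin (s + 2), e j * ((m + j).choose j : ℤ)) :
    a (Fin.last (s + 1)) = e (Fin.last (s + 1)) ∧
      a (Fin.last (s + 1)) = FGA.intNum k X (s + 1) (fun _ : Fin (s + 1) => oX i (-1)) (Coh.structureModule X) ∧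
      a (Fin.castSucc (Fin.last s)) - e (Fin.castSucc (Fin.last s)) =
        FGA.intNum k X (s + 1) (Matrix.vecCons L' (fun _ : Fin s => oX i (-1))) (Coh.structureModule X) := by
  haveI : IsLocallyNoetherian X := isLocallyNoetherian_of_closed i
  have hL' : PicF.IsInvertible L' :=
    Groth.Agent.S2122.result L' L ((H23.PicMul.comm L' L).some ≪≫ hLL'.some)
  have hO : Coh.IsCoh (Coh.structureModule X) := SurfInt.isCoh_structureModule
  have hLc : Coh.IsCoh L := AmpleVan.isCoh_invertible hL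
  have hH := isInvertible_oX i (-1)
  have val : ∀ (r : ℕ) (G : X.Modules), Coh.IsCoh G → ∀ c : Fin (s + 2) → ℤ,
      (∀ m : ℕ, FGA.eulerCharLE k X (Pic13.twistOn k i G m) (s + 1) = ∑ j : Fin (s + 2), c j * ((m + j).choose j : ℤ)) →
      SurfInt.dn (SurfInt.chiCl k G) (fun _ : Fin r => PicF.cl (oX i (-1))) =
        ∑ j : Fin (s + 2), if r ≤ (j : ℕ) then c j else 0 := fun r G hG c hc => by
    rw [dn_eq_bdiff_zero, chiTwist_eq_binComb i hG hdim c hc, bdiff_binComb]
  have htop : ∀ c : Fin (s + 2) → ℤ, (∑ j : Fin (s + 2), if s + 1 ≤ (j : ℕ) then c j else 0) = c (Fin.last (s + 1)) :=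
    fun c => by
    rw [Finset.sum_eq_single (Fin.last (s + 1))]
    · simp
    · intro b _ hb
      rw [if_neg]
      intro hle
      exact hb (Fin.ext (by have := b.2; simp only [Fin.val_last]; omega))
    · simp
  have hsub : ∀ c : Fin (s + 2) → ℤ, (∑ j : Fin (s + 2), if s ≤ (j : ℕ) then c j else 0) =
      c (Fin.castSucc (Fin.last s)) + c (Fin.last (s + 1)) := fun c => by
    rw [Fin.sum_univ_castSucc, Finset.sum_eq_single (Fin.last s)]
    · simp
    · intro b _ hb
      rw [if_neg]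
      intro hle
      exact hb (Fin.ext (by have := b.2; simp only [Fin.val_last, Fin.val_castSucc] at *; omega))
    · simp
  have ec : ∀ {r : ℕ} (A : X.Modules) (M : Fin r → X.Modules),
      (fun b => PicF.cl ((Fin.cons A M : Fin (r + 1) → X.Modules) b)) = Fin.cons (PicF.cl A) (fun b => PicF.cl (M b)) :=
    fun A M => funext fun b => Fin.cases rfl (fun _ => rfl) b
  have hc : ∀ {r : ℕ} {A : X.Modules}, PicF.IsInvertible A →
      ∀ b, PicF.IsInvertible ((Fin.cons A (fun _ : Fin r => oX i (-1)) : Fin (r + 1) → X.Modules) b) :=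
    fun hA => Fin.cases hA fun _ => hH
  have hmul : (fun x => SurfInt.chiCl k (Coh.structureModule X) (PicF.cl L * x)) = SurfInt.chiCl k L := by
    rw [← SurfInt.chiCl_tensor, SurfInt.chiCl_congr k (H23.PicMul.unit L).some]
  -- the top coefficients agree
  have h0 := dn_cl_eq_zero (k := k) hO hdim (Nat.lt_succ_self (s + 1))
    (hc (r := s + 1) hL)
  rw [ec, SurfInt.dn_cons, hmul, val (s + 1) _ hO e he, val (s + 1) L hLc a ha, htop, htop, sub_eq_zero] at h0
  refine ⟨h0.symm, ?_, ?_⟩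
  · rw [SurfInt.intNum_eq_dn k hdim (fun _ => hH) hO, val (s + 1) _ hO e he, htop, h0]
  · have hadd := SurfInt.intNum_additive k (r := s) hdim (M := fun _ => oX i (-1)) (fun _ => hH) hL hL' hO
      ((SurfInt.dim_support_le hdim _))
    have e1 : FGA.intNum k X (s + 1) (Fin.cons (CohB1.tensorMod L L') (fun _ : Fin s => oX i (-1)))
        (Coh.structureModule X) = 0 := by
      rw [SurfInt.intNum_eq_dn k hdim (hc (H23.PicMul.isInvertible_tensor hL hL')) hO, ec,
        H23.PicMul.cl_eq_iff.2 hLL', ← H23.PicMul.one_def, SurfInt.dn_cons_one]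
    have e2 : FGA.intNum k X (s + 1) (Fin.cons L (fun _ : Fin s => oX i (-1))) (Coh.structureModule X) =
        (e (Fin.castSucc (Fin.last s)) + e (Fin.last (s + 1))) - (a (Fin.castSucc (Fin.last s)) + a (Fin.last (s + 1))) := by
      rw [SurfInt.intNum_eq_dn k hdim (hc hL) hO, ec, SurfInt.dn_cons, hmul, val s _ hO e he, val s L hLc a ha,
        hsub, hsub]
    rw [e1, e2] at hadd
    show _ = FGA.intNum k X (s + 1) (Fin.cons L' (fun _ : Fin s => oX i (-1))) (Coh.structureModule X)
    linarith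

end Groth.Agent.Pic13Lib
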