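import Groth.Agent.Pic13Lib.Closed
import Groth.Agent.PnCoh.Finite.SerreVanishing
import Groth.Agent.CurveCohLib.Euler
import Groth.Agent.S0844

/-!
# Serre vanishing on projective space and twisting of exact sequences
-/

set_option linter.style.haveILetI false
set_option backward.isDefEq.respectTransparency false
set_option backward.isDefEq.respectTransparency.types false
set_option maxHeartbeats 1000000

universe u

open CategoryTheory CategoryTheory.Limits AlgebraicGeometry

noncomputable section

namespace Groth.Agent.Pic13Lib

open Groth.Agent.PnCoh Groth.Agent.PnCoh.Finite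

variable {k : Type u} [Field k] {n : ℕ}

theorem serre_proj (M : (Proj (CohB1.polyGrading n k)).Modules) (hM : Good (ProjRegular.coords k n) M)
    (q : ℕ) (hq : 0 < q) :
    ∃ d₀ : ℤ, ∀ d, d₀ ≤ d → Subsingleton (Coh.HH (Proj (CohB1.polyGrading n k)) ((twistF d).obj M) q) :=
  exists_vanishing (f := ProjRegular.coords k n) ProjRegular.coords_mem ProjRegular.coords_cover
    ProjRegular.coords_noetherian (n + 1)
    (fun M hM i hi => QCoh.HH_subsingleton_of_cover (X := Proj (CohB1.polyGrading n k)) (n + 1)
      (fun j => D (CohB1.polyGrading n k) (ProjRegular.coords k n (ULift.up j)))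
      (fun j => isAffineOpen_D ProjRegular.coords_mem _)
      (top_le_iff.1 (ProjRegular.coords_cover.ge.trans (iSup_le fun j => le_iSup_of_le j.down le_rfl)))
      (fun V W hV hW => IsAffineOpen.inf hV hW) hM i hi)
    (fun i hi => ⟨0, fun d hd => S0844.result k n d i (fun h => by omega) fun h => by omega⟩)
    M hM q hq

/-- Serre vanishing for the twists of a coherent module. -/
theorem serre {F : (CohB1.ProjSpace n k).Modules} (hF : Coh.IsCoh F) (q : ℕ) (hq : 0 < q) :
    ∃ d₀ : ℤ, ∀ d, d₀ ≤ d → Subsingleton (Coh.HH (CohB1.ProjSpace n k)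
      (CohB1.tensorMod F (Twist.twistProjSpace n k d)) q) :=
  serre_proj F (good_of_isCoh ProjRegular.coords_mem hF) q hq

/-- `- ⊗ O(d)` on projective space. -/
abbrev twFun (d : ℤ) : (CohB1.ProjSpace n k).Modules ⥤ (CohB1.ProjSpace n k).Modules :=
  (DCoh.tensorBi (X := CohB1.ProjSpace n k)).flip.obj (Twist.twistProjSpace n k d)

theorem shortExact_twFun (d : ℤ) {S : ShortComplex (CohB1.ProjSpace n k).Modules} (hS : S.ShortExact) :
    (S.map (twFun d)).ShortExact :=
  shortExact_twistBy (ProjRegular.coords k n) ProjRegular.coords_mem ProjRegular.coords_cover d hS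

/-- Pushforward along a closed immersion is exact. -/
theorem shortExact_push {X Y : Scheme.{u}} (i : X ⟶ Y) [IsClosedImmersion i] {S : ShortComplex X.Modules}
    (hS : S.ShortExact) : (S.map (Scheme.Modules.pushforward i)).ShortExact := by
  haveI : PreservesFiniteColimits (Scheme.Modules.pushforward i) :=
    ⟨fun J _ _ => KFlatLib.preservesColimitsOfShape_push i J⟩
  haveI : PreservesLimitsOfSize.{0, 0} (Scheme.Modules.pushforward i) :=
    (Scheme.Modules.pullbackPushforwardAdjunction i).rightAdjoint_preservesLimits
  haveI : PreservesFiniteLimits (Scheme.Modules.pushforward i) :=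
    PreservesLimitsOfSize.preservesFiniteLimits _
  haveI : (Scheme.Modules.pushforward i).Additive :=
    Functor.additive_of_preserves_binary_products _
  exact hS.map_of_exact _

end Groth.Agent.Pic13Lib
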