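import Groth.Agent.AbTors.Curve
import Groth.Agent.Lib.CurveDeg
import Groth.Agent.InvX.GenLocusPull
import Groth.Agent.SurfInt.Basic
import Groth.Prelude.Def_Pic13

/-!
# A numerically trivial invertible module with a section is trivial
-/

set_option linter.style.haveILetI false
set_option backward.isDefEq.respectTransparency false
set_option backward.isDefEq.respectTransparency.types false
set_option maxHeartbeats 1000000

universe u

open CategoryTheory CategoryTheory.Limits AlgebraicGeometry TopologicalSpace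

namespace Groth.Agent.Pic13Lib

open Groth.Agent

variable {X : Scheme.{u}}

theorem notMem_genLocus_zero (L : X.Modules) (x : X) :
    x ∉ CohB1.genLocus L (0 : Coh.structureModule X ⟶ L) := fun hx => by
  obtain ⟨U, hxU, hU⟩ := InvX.mem_genLocus hx
  haveI : Nonempty U := ⟨⟨x, hxU⟩⟩
  have hone : InvX.one (0 : Coh.structureModule X ⟶ L) = 0 := by
    show Scheme.Modules.Hom.app (0 : Coh.structureModule X ⟶ L) ⊤ (1 : Γ(X, ⊤)) = 0
    rw [Scheme.Modules.Hom.zero_app]
    rfl
  have h := (hU U le_rfl).1 (a₁ := 0) (a₂ := 1) (by simp [hone, AModX.res])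
  exact zero_ne_one h

theorem isIso_of_genLocus_eq_top {L : X.Modules} (s : Coh.structureModule X ⟶ L)
    (h : CohB1.genLocus L s = ⊤) : IsIso s := by
  have hf : InvX.IsFrame (InvX.one s) := InvX.isFrame_of_germ fun y _ => by
    obtain ⟨U, hyU, hU⟩ := InvX.mem_genLocus (show y ∈ CohB1.genLocus L s by rw [h]; trivial)
    have hb := hU.germ_bijective hyU
    have e : L.presheaf.germ U y hyU (AModX.res L (le_top : U ≤ ⊤) (InvX.one s)) =
        L.presheaf.germ ⊤ y trivial (InvX.one s) :=
      L.presheaf.germ_res_apply (homOfLE le_top) y hyU _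
    rw [e] at hb
    exact hb
  refine Scheme.Modules.Hom.isIso_iff_isIso_app.2 fun W => (ConcreteCategory.isIso_iff_bijective _).2 ?_
  rw [show (s.app W : _ → _) = fun r : Γ(X, W) => r • AModX.res L (le_top : W ≤ ⊤) (InvX.one s) from
    funext fun r => InvX.app_eq_smul s r]
  exact hf W le_top

/-- A section of a numerically trivial invertible module on an integral proper scheme generates it. -/
theorem isIso_of_isNumEquivZero {k : Type u} [Field k] [X.Over (Spec (CommRingCat.of k))]
    [IsProper (X ↘ Spec (CommRingCat.of k))] [IsIntegral X] {L : X.Modules} (hL : PicF.IsInvertible L)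
    (hnum : Pic13.IsNumEquivZero k X L) (s : Coh.structureModule X ⟶ L) (hs : s ≠ 0) : IsIso s := by
  refine isIso_of_genLocus_eq_top s ?_
  by_contra hne
  let Z : Set X := (CohB1.genLocus L s : Set X)ᶜ
  have hZ : IsClosed Z := (CohB1.genLocus L s).2.isClosed_compl
  have hZne : Z.Nonempty := Set.nonempty_compl.2 fun h => hne (Opens.ext h)
  haveI : JacobsonSpace X := LocallyOfFiniteType.jacobsonSpace (X ↘ Spec (CommRingCat.of k))
  obtain ⟨x, hxZ, hxc⟩ := nonempty_inter_closedPoints hZne hZ.isLocallyClosed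
  have hZu : Z ≠ Set.univ := by
    obtain ⟨W, ⟨⟨w, hw⟩⟩, hW⟩ := CurveDeg.exists_open_surjective (PicLoc.isInvertible_structureModule X) hL s hs
    intro hu
    obtain ⟨U, hwU, ε, hε⟩ := InvX.exists_frame hL w
    obtain ⟨r, hr⟩ := hε.exists_coord (inf_le_left : U ⊓ W ≤ U)
      (AModX.res L (le_top : U ⊓ W ≤ ⊤) (InvX.one s))
    obtain ⟨a, ha⟩ := hW (U ⊓ W) inf_le_right (AModX.res L (inf_le_left : U ⊓ W ≤ U) ε)
    have ha' : (show Γ(X, U ⊓ W) from a) • AModX.res L (le_top : U ⊓ W ≤ ⊤) (InvX.one s) =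
        AModX.res L (inf_le_left : U ⊓ W ≤ U) ε := (InvX.app_eq_smul s _).symm.trans ha
    rw [hr, smul_smul] at ha'
    have hu' : (show Γ(X, U ⊓ W) from a) * r = 1 :=
      hε.coord_unique inf_le_left (ha'.trans (one_smul _ _).symm)
    have hfr : InvX.IsFrame (AModX.res L (le_top : U ⊓ W ≤ ⊤) (InvX.one s)) := by
      rw [hr]
      exact (hε.res _).isUnit_smul (IsUnit.of_mul_eq_one_right _ hu')
    exact (hu.symm ▸ Set.mem_univ w : w ∈ Z) (InvX.le_genLocus s hfr ⟨hwU, hw⟩)
  obtain ⟨C, i, hi, hint, hdim, ⟨c, hc⟩, hnot⟩ :=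
    AbTors.exists_curve (X ↘ Spec (CommRingCat.of k)) hxc hZ hxZ hZu
  haveI := hi
  haveI := hint
  let p := i ≫ (X ↘ Spec (CommRingCat.of k))
  letI : C.Over (Spec (CommRingCat.of k)) := ⟨p⟩
  haveI : IsProper (C ↘ Spec (CommRingCat.of k)) :=
    inferInstanceAs (IsProper (i ≫ (X ↘ Spec (CommRingCat.of k))))
  haveI : IsLocallyNoetherian C := LocallyOfFiniteType.isLocallyNoetherian (C ↘ Spec (CommRingCat.of k))
  have hN := PicClLib.isInvertible_pullback i hL
  let φ : Coh.structureModule C ⟶ (Scheme.Modules.pullback i).obj L :=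
    (PicLoc.pullbackStructureIso i).symm.hom ≫ (Scheme.Modules.pullback i).map s
  have hloc : CohB1.genLocus _ φ = i ⁻¹ᵁ CohB1.genLocus L s := InvX.genLocus_pullback i hL s _
  have hφ : φ ≠ 0 := fun h0 => by
    obtain ⟨z, ⟨w, rfl⟩, hz⟩ := Set.not_subset.1 hnot
    have hw : w ∈ CohB1.genLocus _ φ := by
      rw [hloc]
      exact not_not.1 hz
    rw [h0] at hw
    exact notMem_genLocus_zero _ w hw
  obtain ⟨hle, hiso⟩ := CurveDeg.euler_le_and_isIso k hdim.le (PicLoc.isInvertible_structureModule C) hN φ hφ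
  have h0 : FGA.eulerCharLE k C ((Scheme.Modules.pullback i).obj L) 1 -
      FGA.eulerCharLE k C (Coh.structureModule C) 1 = 0 := hnum C i hint hdim
  rw [SurfInt.eulerCharLE_eq_euler k (d := 1) hdim.le (AmpleVan.isCoh_invertible hN).1,
    SurfInt.eulerCharLE_eq_euler k (d := 1) hdim.le (StMod.isQCoh_structureModule C), sub_eq_zero] at h0
  haveI := hiso h0.symm
  have htop : CohB1.genLocus _ φ = ⊤ := top_le_iff.1 (le_sSup (show IsIso _ from inferInstance))
  have hcm : c ∈ CohB1.genLocus _ φ := by rw [htop]; trivial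
  rw [hloc] at hcm
  exact hxZ (hc ▸ hcm)

end Groth.Agent.Pic13Lib
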