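import Groth.Agent.Pic13Lib.HilbCoeff
import Groth.Agent.Pic13Lib.SectTriv
import Groth.Agent.HilbPoly.Pos
import Groth.Agent.VarDim.Top
import Groth.Agent.AmpleVan.Pull
import Groth.Agent.AmpleX.Proj
import Groth.Agent.Lib.AVAmple
import Groth.Agent.H23.InvStalk

/-!
# An invertible module of non-positive degree with a section is trivial
-/

set_option linter.style.haveILetI false
set_option linter.unusedSectionVars false
set_option backward.isDefEq.respectTransparency false
set_option backward.isDefEq.respectTransparency.types false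
set_option maxHeartbeats 1000000

universe u

open CategoryTheory CategoryTheory.Limits AlgebraicGeometry TopologicalSpace Opposite MonoidalCategory

attribute [local instance] HasDerivedCategory.standard

noncomputable section

namespace Groth.Agent.Pic13Lib

open Groth.Agent
open scoped Groth.Agent.H23.PicMul

variable {k : Type u} [Field k] {X : Scheme.{u}}

theorem genericPoint_mem_genLocus [IsIntegral X] {L : X.Modules} (hL : PicF.IsInvertible L)
    (s : Coh.structureModule X ⟶ L) (hs : s ≠ 0) : genericPoint X ∈ CohB1.genLocus L s := by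
  obtain ⟨W, ⟨⟨w, hw⟩⟩, hW⟩ := CurveDeg.exists_open_surjective (PicLoc.isInvertible_structureModule X) hL s hs
  obtain ⟨U, hwU, ε, hε⟩ := InvX.exists_frame hL w
  obtain ⟨r, hr⟩ := hε.exists_coord (inf_le_left : U ⊓ W ≤ U)
    (AModX.res L (le_top : U ⊓ W ≤ ⊤) (InvX.one s))
  obtain ⟨a, ha⟩ := hW (U ⊓ W) inf_le_right (AModX.res L (inf_le_left : U ⊓ W ≤ U) ε)
  have ha' : (show Γ(X, U ⊓ W) from a) • AModX.res L (le_top : U ⊓ W ≤ ⊤) (InvX.one s) =
      AModX.res L (inf_le_left : U ⊓ W ≤ U) ε := (InvX.app_eq_smul s _).symm.trans ha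
  rw [hr, smul_smul] at ha'
  have hu' : (show Γ(X, U ⊓ W) from a) * r = 1 :=
    hε.coord_unique inf_le_left (ha'.trans (one_smul _ _).symm)
  have hfr : InvX.IsFrame (AModX.res L (le_top : U ⊓ W ≤ ⊤) (InvX.one s)) := by
    rw [hr]
    exact (hε.res _).isUnit_smul (IsUnit.of_mul_eq_one_right _ hu')
  exact (genericPoint_specializes w).mem_open (CohB1.genLocus L s).2 (InvX.le_genLocus s hfr ⟨hwU, hw⟩)

/-- A component of the zero locus of a section has codimension one. -/
theorem exists_deg_zeroLocus (f : X ⟶ Spec (CommRingCat.of k)) [LocallyOfFiniteType f] [IsIntegral X]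
    {L : X.Modules} (hL : PicF.IsInvertible L) (s : Coh.structureModule X ⟶ L) (hs : s ≠ 0)
    (hne : CohB1.genLocus L s ≠ ⊤) :
    ∃ η : X, η ∉ CohB1.genLocus L s ∧ VarDim.deg f (genericPoint X) = VarDim.deg f η + 1 := by
  obtain ⟨z, hz⟩ : ∃ z : X, z ∉ CohB1.genLocus L s := by
    by_contra hc
    push Not at hc
    exact hne (top_le_iff.1 fun x _ => hc x)
  obtain ⟨U, hzU, ε, hε⟩ := InvX.exists_frame hL z
  obtain ⟨V, hV, hzV, hVU⟩ := exists_isAffineOpen_mem_and_subset (x := z) (U := U) hzU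
  obtain ⟨g, hg⟩ := (hε.res (show V ≤ U from hVU)).exists_coord le_rfl (AModX.res L (le_top : V ≤ ⊤) (InvX.one s))
  rw [AModX.res_self] at hg
  have hloc := InvX.genLocus_inf s (hε.res (show V ≤ U from hVU)) hg
  have hgen := genericPoint_mem_genLocus hL s hs
  haveI : IsNoetherianRing Γ(X, V) := by
    haveI := LocallyOfFiniteType.isLocallyNoetherian f
    exact IsLocallyNoetherian.component_noetherian ⟨V, hV⟩
  haveI : Nonempty V := ⟨⟨z, hzV⟩⟩
  haveI : IsDomain Γ(X, V) := inferInstance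
  have hmem : ∀ p : PrimeSpectrum Γ(X, V), hV.fromSpec p ∈ CohB1.genLocus L s ↔ g ∉ p.asIdeal := fun p => by
    have h1 : hV.fromSpec p ∈ X.basicOpen g ↔ g ∉ p.asIdeal := by
      have h := congrArg (fun W : (Spec Γ(X, V)).Opens => p ∈ W) (hV.fromSpec_preimage_basicOpen g)
      exact (iff_of_eq h).trans Iff.rfl
    rw [← h1, ← hloc]
    exact ⟨fun h => ⟨h, VarDim.fromSpec_mem hV p⟩, fun h => h.1⟩
  obtain ⟨q, hq⟩ := VarDim.exists_fromSpec_eq hV hzV
  have hgq : g ∈ q.asIdeal := not_not.1 fun h => hz (hq ▸ (hmem q).2 h)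
  obtain ⟨r, hr⟩ := VarDim.exists_fromSpec_eq hV
    ((genericPoint_specializes z).mem_open V.2 hzV)
  have hgr : g ∉ r.asIdeal := (hmem r).1 (hr.symm ▸ hgen)
  obtain ⟨p, hp, -⟩ := Ideal.exists_minimalPrimes_le (I := Ideal.span {g}) (J := q.asIdeal)
    ((Ideal.span_singleton_le_iff_mem _).2 hgq)
  haveI := hp.1.1
  have hht : p.height ≤ 1 := Ideal.height_le_one_of_isPrincipal_of_mem_minimalPrimes (Ideal.span {g}) p hp
  have hgp : g ∈ p := hp.1.2 (Ideal.mem_span_singleton_self g)
  refine ⟨hV.fromSpec ⟨p, hp.1.1⟩, fun h => (hmem ⟨p, hp.1.1⟩).1 h hgp, ?_⟩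
  refine VarDim.deg_of_immediate f ?_ (genericPoint_specializes _) fun y hy₁ hy₂ => ?_
  · intro h
    rw [← hr] at h
    have := hV.fromSpec.isOpenEmbedding.injective h
    exact hgr (this ▸ hgp)
  · obtain ⟨t, rfl⟩ := VarDim.exists_fromSpec_eq hV (hy₂.mem_open V.2 (VarDim.fromSpec_mem hV _))
    have hle : t.asIdeal ≤ p := (VarDim.fromSpec_specializes_iff hV t ⟨p, hp.1.1⟩).1 hy₂
    rcases hle.lt_or_eq with hlt | heq
    · left
      have h0 : t.asIdeal.height = 0 := by
        haveI := t.2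
        have h := Ideal.height_add_one_le_of_lt_of_isPrime hlt
        exact ENat.lt_one_iff_eq_zero.1 ((ENat.add_one_le_iff (ne_top_of_le_ne_top ENat.one_ne_top
          ((le_self_add).trans (h.trans hht)))).1 (h.trans hht))
      haveI := t.2
      have hbot : t.asIdeal = ⊥ := by
        have := Ideal.height_eq_zero_iff.1 h0
        rw [IsDomain.minimalPrimes_eq_singleton_bot] at this
        exact this
      have hrt : r = t := by
        refine PrimeSpectrum.ext ?_
        have h : r.asIdeal ≤ t.asIdeal :=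
          (VarDim.fromSpec_specializes_iff hV r t).1 (hr.symm ▸ genericPoint_specializes _)
        rw [hbot] at h ⊢
        exact le_bot_iff.1 h
      rw [← hr, hrt]
    · right
      exact congrArg hV.fromSpec (PrimeSpectrum.ext heq)

variable [X.Over (Spec (CommRingCat.of k))] {n : ℕ} (i : X ⟶ CohB1.ProjSpace n k) [IsClosedImmersion i]

local notation "π" => (X ↘ Spec (CommRingCat.of k))

theorem isAmple_oX_one [CompactSpace X] : CohB1.IsAmple (oX i 1) := by
  classical
  let T : Finset (MvPolynomial (Fin (n + 1)) k) := Finset.univ.image MvPolynomial.X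
  have hamp : CohB1.IsAmple (Twist.twistProjSpace n k 1) := by
    refine AmpleX.isAmple_twist_one _ T (fun g hg => ?_) ?_
    · obtain ⟨j, -, rfl⟩ := Finset.mem_image.1 hg
      exact ProjPt.X_mem j
    · refine Proj.iSup_basicOpen_eq_top _ _ ((SegreX.irrelevant_le_span n k).trans ?_)
      refine Ideal.span_mono ?_
      rintro _ ⟨j, rfl⟩
      exact ⟨⟨_, Finset.mem_image.2 ⟨j, Finset.mem_univ _, rfl⟩⟩, rfl⟩
  exact AmpleVan.isAmple_pullback_of_isEmbedding i i.isClosedEmbedding.isEmbedding hamp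

theorem lead_eq_bdiff [IsProper π] [IsLocallyNoetherian X] (F : X.Modules) : ∀ (r : ℕ) (d : ℤ),
    HilbPoly.lead (oX i 1) (Curv2.euler k X) r (Pic13.twistOn k i F d) = bdiff r (chiTwist k i F) (d + r)
  | 0, d => by
    show Curv2.euler k X (Pic13.twistOn k i F d) = _
    simp [bdiff, chiTwist]
  | r + 1, d => by
    have hA := HilbPoly.additive_lead (L := oX i 1) (HilbPoly.additive_euler k) (isInvertible_oX i 1) r
    show HilbPoly.lead (oX i 1) (Curv2.euler k X) r ((AmpleVan.tw (oX i 1)).obj (Pic13.twistOn k i F d)) -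
      HilbPoly.lead (oX i 1) (Curv2.euler k X) r (Pic13.twistOn k i F d) = _
    rw [hA.iso _ _ (show Nonempty ((AmpleVan.tw (oX i 1)).obj (Pic13.twistOn k i F d) ≅
        Pic13.twistOn k i F (d + 1)) from twistOn_twistOn i F d 1), lead_eq_bdiff F r, lead_eq_bdiff F r, bdiff]
    push_cast
    rw [show d + ((r : ℤ) + 1) = d + 1 + r by ring, show d + 1 + (r : ℤ) - 1 = d + r by ring]

theorem dn_eq_mult [IsProper π] [IsLocallyNoetherian X] (F : X.Modules) (r : ℕ) :
    SurfInt.dn (SurfInt.chiCl k F) (fun _ : Fin r => PicF.cl (oX i (-1))) =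
      HilbPoly.mult k (oX i 1) r (Pic13.twistOn k i F (-(r : ℤ))) := by
  rw [dn_eq_bdiff_zero]
  show _ = HilbPoly.lead (oX i 1) (Curv2.euler k X) r (Pic13.twistOn k i F (-(r : ℤ)))
  rw [lead_eq_bdiff, neg_add_cancel]

theorem support_twistOn (F : X.Modules) (d : ℤ) :
    CohB1.support (Pic13.twistOn k i F d) = CohB1.support F := by
  refine (HilbPoly.support_tensor_subset _ _).antisymm fun x hx => ?_
  refine HilbPoly.support_tensor_subset (Pic13.twistOn k i F d) (oX i (-d)) ?_
  obtain ⟨e⟩ := twistOn_twistOn i F d (-d)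
  intro hc
  have e' : Pic13.twistOn k i (Pic13.twistOn k i F d) (-d) ≅ F :=
    e ≪≫ eqToIso (by rw [add_neg_cancel]) ≪≫ (twistOn_zero i F).some
  exact hx (@Equiv.subsingleton _ _ ((DerSch.stalkFunctor X x).mapIso e').toLinearEquiv.toEquiv.symm hc)

set_option maxHeartbeats 8000000 in
/-- Degree `≤ 0` and a nonzero section force triviality. -/
theorem isIso_of_intNum_nonpos [IsProper π] [IsIntegral X] (s : ℕ)
    (hdim : topologicalKrullDim X = ((s + 1 : ℕ) : WithBot ℕ∞))
    {L L' : X.Modules} (hL : PicF.IsInvertible L) (hLL' : Nonempty (CohB1.tensorMod L L' ≅ Coh.structureModule X))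
    (hdeg : FGA.intNum k X (s + 1) (Matrix.vecCons L' (fun _ : Fin s => oX i (-1))) (Coh.structureModule X) ≤ 0)
    (σ : Coh.structureModule X ⟶ L) (hσ : σ ≠ 0) : IsIso σ := by
  haveI : IsLocallyNoetherian X := isLocallyNoetherian_of_closed i
  haveI : CompactSpace X := QuasiCompact.compactSpace_of_compactSpace π
  refine isIso_of_genLocus_eq_top σ ?_
  by_contra hne
  obtain ⟨η, hη, hdeg'⟩ := exists_deg_zeroLocus π hL σ hσ hne
  have hgen := VarDim.topologicalKrullDim_eq_deg_genericPoint π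
  rw [hdim] at hgen
  have hdgen : VarDim.deg π (genericPoint X) = s + 1 := by
    have h := WithBot.coe_injective (hgen.symm.trans
      (rfl : (((s + 1 : ℕ)) : WithBot ℕ∞) = (((s + 1 : ℕ) : ℕ∞) : WithBot ℕ∞)))
    exact_mod_cast h
  have hO : Coh.IsCoh (Coh.structureModule X) := SurfInt.isCoh_structureModule
  let φ := HilbPoly.mulHom σ (Coh.structureModule X)
  have hP : PicF.IsInvertible (CohB1.tensorMod (Coh.structureModule X) L) :=
    H23.PicMul.isInvertible_tensor (PicLoc.isInvertible_structureModule X) hL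
  obtain ⟨U, hgU, hUf⟩ := InvX.mem_genLocus (genericPoint_mem_genLocus hL σ hσ)
  haveI : IsIso ((Scheme.Modules.restrictFunctor U.ι).map σ) := (InvX.isIso_restrict_iff σ U).2 hUf
  haveI hiU : IsIso ((Scheme.Modules.restrictFunctor U.ι).map φ) :=
    HilbPoly.isIso_restrict_mulHom σ (Coh.structureModule X)
  have hmemφ : genericPoint X ∈ CohB1.genLocus _ φ := Opens.mem_sSup.2 ⟨U, hiU, hgU⟩
  have hφ : φ ≠ 0 := fun h0 => notMem_genLocus_zero _ _ (h0 ▸ hmemφ)
  haveI : Mono φ := InvEnd.mono_of_ne_zero (PicLoc.isInvertible_structureModule X) hP φ hφ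
  have hPc : Coh.IsCoh (CohB1.tensorMod (Coh.structureModule X) L) := AmpleVan.isCoh_invertible hP
  let G : X.Modules := cokernel φ
  have hG : Coh.IsCoh G := QCoh.isCoh_cokernel hO.1 hPc φ
  have hS : (ShortComplex.mk φ (cokernel.π φ) (cokernel.condition φ)).ShortExact :=
    .mk' (ShortComplex.exact_of_g_is_cokernel _ (cokernelIsCokernel φ)) ‹_› inferInstance
  -- the support of the cokernel
  have hηG : η ∈ CohB1.support G := by
    refine HilbPoly.mem_support_cokernel_mulHom hO hL σ (fun hc => ?_) hη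
    obtain ⟨e₀⟩ := H23.InvStalk.exists_stalk_equiv (PicLoc.isInvertible_structureModule X) η
    haveI : Subsingleton (X.presheaf.stalk η) := @Equiv.subsingleton _ _ e₀.toEquiv.symm hc
    exact false_of_nontrivial_of_subsingleton (X.presheaf.stalk η)
  have hgG : genericPoint X ∉ CohB1.support G := by
    obtain ⟨_, ⟨V, hV, rfl⟩, hgV, hVU⟩ := X.isBasis_affineOpens.exists_subset_of_mem_open hgU U.isOpen
    refine (QCoh.notMem_support_iff hG.1 hV hgV).2 fun m => ?_
    obtain ⟨l, rfl⟩ := QCoh.app_surjective_of_epi hPc.1 hG.1 (cokernel.π φ) hV m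
    have hfr := (InvX.isIso_restrict_iff φ U).1 hiU
    obtain ⟨a, ha⟩ := hfr.exists_coord (show V ≤ U from hVU) l
    refine ⟨1, by rw [X.basicOpen_of_isUnit isUnit_one]; exact hgV, ?_⟩
    rw [one_smul, ha, AModX.res_res, ← InvX.app_eq_smul]
    exact congrArg (fun ψ => Scheme.Modules.Hom.app ψ V a) (cokernel.condition φ)
  have hGc := QCoh.isClosed_support_of_isFT hG.1 hG.2
  have hle : topologicalKrullDim ↥(CohB1.support G) ≤ (s : WithBot ℕ∞) := by
    rw [VarDim.topologicalKrullDim_set_eq_iSup_deg π hGc]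
    refine iSup_le fun w => ?_
    have hlt : w.1 < genericPoint X := lt_iff_le_not_ge.2 ⟨genericPoint_specializes _, fun h' =>
      hgG (((genericPoint_specializes w.1).antisymm h').eq ▸ w.2)⟩
    have := VarDim.deg_strictMono π hlt
    exact_mod_cast (show VarDim.deg π w.1 ≤ s by omega)
  have heq : topologicalKrullDim ↥(CohB1.support G) = (s : WithBot ℕ∞) := by
    refine hle.antisymm ?_
    rw [VarDim.topologicalKrullDim_set_eq_iSup_deg π hGc]
    refine le_iSup_of_le ⟨η, hηG⟩ ?_
    exact_mod_cast (show s ≤ VarDim.deg π η by omega)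
  have hpos : 0 < HilbPoly.mult k (oX i 1) s (Pic13.twistOn k i G (-(s : ℤ))) :=
    (HilbPoly.mult_nonneg_and_pos k (isAmple_oX_one i) s _ (isCoh_twistOn i hG _)
      (by rw [support_twistOn]; exact hle)).2 (by rw [support_twistOn]; exact heq)
  -- additivity
  have hA := (HilbPoly.additive_lead (L := oX i 1) (HilbPoly.additive_euler k) (isInvertible_oX i 1) s).shift
    (isInvertible_oX i (-(s : ℤ)))
  have hsum : HilbPoly.mult k (oX i 1) s (Pic13.twistOn k i (CohB1.tensorMod (Coh.structureModule X) L) (-(s : ℤ))) =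
      HilbPoly.mult k (oX i 1) s (Pic13.twistOn k i (Coh.structureModule X) (-(s : ℤ))) +
      HilbPoly.mult k (oX i 1) s (Pic13.twistOn k i G (-(s : ℤ))) := hA.add _ hS hO hPc hG
  rw [← dn_eq_mult, ← dn_eq_mult, SurfInt.chiCl_congr k
    ((H23.PicMul.comm _ _).some ≪≫ (H23.PicMul.unit L).some)] at hsum
  have hH := isInvertible_oX i (-1)
  have hL' : PicF.IsInvertible L' :=
    Groth.Agent.S2122.result L' L ((H23.PicMul.comm L' L).some ≪≫ hLL'.some)
  have ec : ∀ {r : ℕ} (A : X.Modules) (M : Fin r → X.Modules),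
      (fun b => PicF.cl ((Fin.cons A M : Fin (r + 1) → X.Modules) b)) = Fin.cons (PicF.cl A) (fun b => PicF.cl (M b)) :=
    fun A M => funext fun b => Fin.cases rfl (fun _ => rfl) b
  have hc : ∀ {r : ℕ} {A : X.Modules}, PicF.IsInvertible A →
      ∀ b, PicF.IsInvertible ((Fin.cons A (fun _ : Fin r => oX i (-1)) : Fin (r + 1) → X.Modules) b) :=
    fun hA => Fin.cases hA fun _ => hH
  have hmul : (fun x => SurfInt.chiCl k (Coh.structureModule X) (PicF.cl L * x)) = SurfInt.chiCl k L := by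
    rw [← SurfInt.chiCl_tensor, SurfInt.chiCl_congr k (H23.PicMul.unit L).some]
  have hadd := SurfInt.intNum_additive k (r := s) hdim.le (M := fun _ => oX i (-1)) (fun _ => hH) hL hL' hO
    (SurfInt.dim_support_le hdim.le _)
  have e1 : FGA.intNum k X (s + 1) (Fin.cons (CohB1.tensorMod L L') (fun _ : Fin s => oX i (-1)))
      (Coh.structureModule X) = 0 := by
    rw [SurfInt.intNum_eq_dn k hdim.le (hc (H23.PicMul.isInvertible_tensor hL hL')) hO, ec,
      H23.PicMul.cl_eq_iff.2 hLL', ← H23.PicMul.one_def, SurfInt.dn_cons_one]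
  have e2 : FGA.intNum k X (s + 1) (Fin.cons L (fun _ : Fin s => oX i (-1))) (Coh.structureModule X) =
      SurfInt.dn (SurfInt.chiCl k (Coh.structureModule X)) (fun _ : Fin s => PicF.cl (oX i (-1))) -
      SurfInt.dn (SurfInt.chiCl k L) (fun _ : Fin s => PicF.cl (oX i (-1))) := by
    rw [SurfInt.intNum_eq_dn k hdim.le (hc hL) hO, ec, SurfInt.dn_cons, hmul]
  rw [e1, e2] at hadd
  have hdeg'' : FGA.intNum k X (s + 1) (Fin.cons L' (fun _ : Fin s => oX i (-1))) (Coh.structureModule X) ≤ 0 := hdeg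
  linarith

theorem exists_hom_of_nontrivial (L : X.Modules) (h : Nontrivial (Coh.HH X L 0)) :
    ∃ σ : Coh.structureModule X ⟶ L, σ ≠ 0 := by
  let e : Coh.HH X L 0 ≃+ Γ(L, ⊤) := Sheaf.H.equiv₀ (Coh.toAb L) isTerminalTop
  obtain ⟨x, hx⟩ := exists_ne (0 : Coh.HH X L 0)
  let sec : L.sections := PresheafOfModules.sectionsMk
    (fun W => L.val.map (homOfLE (le_top : W.unop ≤ ⊤)).op (e x))
    (fun W W' g => by
      rw [← PresheafOfModules.map_comp_apply]
      rfl)
  refine ⟨L.unitHomEquiv.symm sec, fun h0 => hx (e.injective ?_)⟩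
  rw [map_zero]
  have h1 := congrArg (fun σ => (L.unitHomEquiv σ).val (op ⊤)) h0
  simp only [Equiv.apply_symm_apply] at h1
  have h2 : sec.val (op ⊤) = e x := by
    show L.val.map (homOfLE (le_top : (⊤ : X.Opens) ≤ ⊤)).op (e x) = e x
    rw [show (homOfLE (le_top : (⊤ : X.Opens) ≤ ⊤)).op = 𝟙 (op ⊤) from rfl, PresheafOfModules.map_id]
    rfl
  rw [h2] at h1
  exact h1.trans rfl

end Groth.Agent.Pic13Lib
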