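import Groth.Agent.Pic13Lib.Pieces
import Groth.Agent.SurfInt.Basic
import Groth.Agent.S2122

/-!
# Intersection numbers are bounded on a bounded family
-/

set_option backward.isDefEq.respectTransparency false
set_option backward.isDefEq.respectTransparency.types false
set_option linter.style.haveILetI false
set_option maxHeartbeats 1000000

universe u

open CategoryTheory CategoryTheory.Limits AlgebraicGeometry TopologicalSpace Opposite

namespace Groth.Agent.Pic13Lib

open Groth.Agent
open scoped Groth.Agent.H23.PicMul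

variable {k : Type u} [Field k] {X : Scheme.{u}} [X.Over (Spec (CommRingCat.of k))]

local notation "π" => (X ↘ Spec (CommRingCat.of k))

/-- A relation expressing the first value through the later ones. -/
theorem chiCl_relation [IsProper π] {d : ℕ} (hd : topologicalKrullDim X ≤ d) {L F : X.Modules}
    (hL : PicF.IsInvertible L) (hF : Coh.IsCoh F) :
    ∑ I : Finset (Fin (d + 1)), (-1 : ℤ) ^ I.card * SurfInt.chiCl k F (PicF.cl L ^ I.card) = 0 := by
  have h := SurfInt.dn_chiCl_eq_zero k (r := d + 1) (M := fun _ => L) (fun _ => hL) hF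
    (lt_of_le_of_lt (SurfInt.dim_support_le hd F) (by exact_mod_cast Nat.lt_succ_self d))
  rw [SurfInt.dn, SurfInt.dd, Finset.powerset_univ] at h
  simpa [Finset.prod_const] using h

variable [IsAlgClosed k]

/-- In a bounded family of invertible modules the values `χ(L^i ⊗ L'^j ⊗ A)` are bounded. -/
theorem exists_bound_chi [IsProper π] {d : ℕ} (hd : topologicalKrullDim X ≤ d) {P : X.Modules → Prop}
    (hP : ∀ L, P L → PicF.IsInvertible L) (hb : Pic13.IsBounded k X P) :
    ∀ (j i : ℕ) (A : X.Modules), PicF.IsInvertible A → ∃ B : ℤ, ∀ L L' : X.Modules, P L →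
      PicF.cl L * PicF.cl L' = 1 →
        |SurfInt.chiCl k (Coh.structureModule X) (PicF.cl A * PicF.cl L' ^ j * PicF.cl L ^ i)| ≤ B := by
  haveI : IsLocallyNoetherian X := LocallyOfFiniteType.isLocallyNoetherian π
  intro j
  induction j with
  | zero =>
    intro i A hA
    obtain ⟨T, q, _, _, G, hG, hmem⟩ := hb
    haveI : IsLocallyNoetherian (Pic13.prodK k X q) :=
      haveI : IsLocallyNoetherian T := LocallyOfFiniteType.isLocallyNoetherian q
      LocallyOfFiniteType.isLocallyNoetherian (pullback.snd π q)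
    have hpow : ∀ e : ℕ, Coh.IsCoh (CohB1.tensorPow G e) := fun e => by
      induction e with
      | zero => exact SurfInt.isCoh_structureModule
      | succ e ih => exact AmpleVan.isCoh_tensor ih hG
    let G' := CohB1.tensorMod (CohB1.tensorPow G i) ((Scheme.Modules.pullback (pullback.fst π q)).obj A)
    have hG' : Coh.IsCoh G' := AmpleVan.isCoh_tensor (hpow i)
      (AmpleVan.isCoh_invertible (PicClLib.isInvertible_pullback _ hA))
    obtain ⟨S, hS⟩ := exists_euler_finset d hd q G' hG'
    refine ⟨∑ x ∈ S, |x|, fun L L' hL _ => ?_⟩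
    obtain ⟨t, ht, ⟨e⟩⟩ := hmem L hL
    let g := Pic13.sliceAt k X q t ht
    have e' : PicF.cl (Pic13.fibreMod k X q t ht G') = PicF.cl A * PicF.cl L ^ i := by
      calc PicF.cl (Pic13.fibreMod k X q t ht G')
          = PicF.pullCl g (PicF.cl (CohB1.tensorPow G i) *
              PicF.cl ((Scheme.Modules.pullback (pullback.fst π q)).obj A)) := rfl
        _ = PicF.pullCl g (PicF.cl G) ^ i * PicF.pullCl g (PicF.pullCl (pullback.fst π q) (PicF.cl A)) := by
          rw [H23.PicMul.pullCl_mul, H23.PicMul.cl_tensorPow, H23.PicMul.pullCl_pow]; rfl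
        _ = _ := by
          rw [PicClLib.pullCl_comp, show g ≫ pullback.fst π q = 𝟙 X from pullback.lift_fst _ _ _,
            PicClLib.pullCl_id, mul_comm]
          congr 2
          exact H23.PicMul.cl_eq_iff.2 ⟨e⟩
    rw [pow_zero, mul_one, ← e', SurfInt.chiCl_structureModule,
      ← SurfInt.eulerCharLE_eq_euler k hd (show Coh.IsQCoh (Pic13.fibreMod k X q t ht G') from
        QCoh.isQCoh_pullback _ hG'.1)]
    exact Finset.single_le_sum (f := fun x : ℤ => |x|) (fun x _ => abs_nonneg x) (hS t ht)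
  | succ j ih =>
    intro i A hA
    rcases i with _ | i
    · choose B hB using fun I : Finset (Fin (d + 1)) => ih (I.card - 1) A hA
      refine ⟨∑ I, |B I|, fun L L' hL he => ?_⟩
      have hL' : PicF.IsInvertible L' :=
        Groth.Agent.S2122.result L' L ((H23.PicMul.comm L' L).some ≪≫ (H23.PicMul.cl_eq_iff.1 he).some)
      let F := CohB1.tensorMod A (CohB1.tensorPow L' (j + 1))
      have hF : Coh.IsCoh F := AmpleVan.isCoh_invertible
        (H23.PicMul.isInvertible_tensor hA (H23.PicMul.isInvertible_tensorPow hL' (j + 1)))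
      have hrel := chiCl_relation (k := k) hd (hP L hL) hF
      rw [← Finset.add_sum_erase _ _ (Finset.mem_univ (∅ : Finset (Fin (d + 1))))] at hrel
      simp only [Finset.card_empty, pow_zero, one_mul] at hrel
      have hval : ∀ x : PicF.Cl X, SurfInt.chiCl k F x =
          SurfInt.chiCl k (Coh.structureModule X) (PicF.cl A * PicF.cl L' ^ (j + 1) * x) := fun x => by
        induction x using Quot.ind with
        | mk M =>
          rw [← H23.PicMul.cl_tensorPow]
          show Curv2.euler k X (CohB1.tensorMod M F) = Curv2.euler k X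
            (CohB1.tensorMod (CohB1.tensorMod F M) (Coh.structureModule X))
          exact CurveCohLib.euler_congr (k := k) ((H23.PicMul.comm M F).some ≪≫ (H23.PicMul.unit _).some.symm)
      have hval' : ∀ I : Finset (Fin (d + 1)), I ≠ ∅ →
          |SurfInt.chiCl k F (PicF.cl L ^ I.card)| ≤ |B I| := fun I hI => by
        obtain ⟨m, hm⟩ : ∃ m, I.card = m + 1 :=
          Nat.exists_eq_add_one.2 (Finset.card_pos.2 (Finset.nonempty_iff_ne_empty.2 hI))
        refine le_trans (le_of_eq ?_) ((hB I L L' hL he).trans (le_abs_self _))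
        rw [hval, hm, Nat.add_sub_cancel, pow_succ, pow_succ,
          show PicF.cl A * (PicF.cl L' ^ j * PicF.cl L') * (PicF.cl L ^ m * PicF.cl L) =
            PicF.cl A * PicF.cl L' ^ j * PicF.cl L ^ m * (PicF.cl L * PicF.cl L') by ac_rfl, he, mul_one]
      rw [pow_zero, ← hval, eq_neg_of_add_eq_zero_left hrel, abs_neg]
      refine (Finset.abs_sum_le_sum_abs _ _).trans
        ((Finset.sum_le_sum fun I hI => ?_).trans (Finset.sum_le_sum_of_subset_of_nonneg (Finset.erase_subset _ _)
          fun I _ _ => abs_nonneg _))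
      rw [abs_mul, abs_pow, abs_neg, abs_one, one_pow, one_mul]
      exact hval' I (Finset.ne_of_mem_erase hI)
    · obtain ⟨B, hB⟩ := ih i A hA
      refine ⟨B, fun L L' hL he => le_trans (le_of_eq ?_) (hB L L' hL he)⟩
      rw [pow_succ, pow_succ, show PicF.cl A * (PicF.cl L' ^ j * PicF.cl L') * (PicF.cl L ^ i * PicF.cl L) =
        PicF.cl A * PicF.cl L' ^ j * PicF.cl L ^ i * (PicF.cl L * PicF.cl L') by ac_rfl, he, mul_one]

/-- Intersection numbers with one or two copies of the inverse are bounded on a bounded family. -/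
theorem exists_bound_dn [IsProper π] {d : ℕ} (hd : topologicalKrullDim X ≤ d) {P : X.Modules → Prop}
    (hP : ∀ L, P L → PicF.IsInvertible L) (hb : Pic13.IsBounded k X P) {r : ℕ} (M : Fin r → X.Modules)
    (hM : ∀ a, PicF.IsInvertible (M a)) (j : ℕ) :
    ∃ B : ℤ, ∀ L L' : X.Modules, P L → PicF.cl L * PicF.cl L' = 1 →
      |SurfInt.dn (fun x => SurfInt.chiCl k (Coh.structureModule X) (PicF.cl L' ^ j * x))
        (fun a => PicF.cl (M a))| ≤ B := by
  have hI : ∀ I : Finset (Fin r), ∃ B : ℤ, ∀ L L' : X.Modules, P L → PicF.cl L * PicF.cl L' = 1 →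
      |SurfInt.chiCl k (Coh.structureModule X) (PicF.cl L' ^ j * ∏ a ∈ I, PicF.cl (M a))| ≤ B := fun I => by
    obtain ⟨A, hA, hA'⟩ := SurfInt.isInvertibleCl_prod I (fun a => PicF.cl (M a)) fun a _ => ⟨M a, rfl, hM a⟩
    obtain ⟨B, hB⟩ := exists_bound_chi hd hP hb j 0 A hA'
    refine ⟨B, fun L L' hL he => le_trans (le_of_eq ?_) (hB L L' hL he)⟩
    rw [pow_zero, mul_one, ← hA, mul_comm]
  choose B hB using hI
  refine ⟨∑ I, |B I|, fun L L' hL he => ?_⟩
  rw [SurfInt.dn, SurfInt.dd, Finset.powerset_univ]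
  refine (Finset.abs_sum_le_sum_abs _ _).trans (Finset.sum_le_sum fun I _ => ?_)
  rw [abs_mul, abs_pow, abs_neg, abs_one, one_pow, one_mul]
  exact (hB I L L' hL he).trans (le_abs_self _)

/-- The statement used for bounded families on a variety with an ample module. -/
theorem exists_bound_intNum [IsProper π] (s : ℕ) (hd : topologicalKrullDim X ≤ ((s + 2 : ℕ) : WithBot ℕ∞))
    {H' : X.Modules} (hH' : PicF.IsInvertible H') {P : X.Modules → Prop}
    (hP : ∀ L, P L → PicF.IsInvertible L) (hb : Pic13.IsBounded k X P) :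
    ∃ B : ℤ, ∀ L L' : X.Modules, P L → Nonempty (CohB1.tensorMod L L' ≅ Coh.structureModule X) →
      |FGA.intNum k X (s + 2) (Matrix.vecCons L' (fun _ : Fin (s + 1) => H')) (Coh.structureModule X)| ≤ B ∧
      |FGA.intNum k X (s + 2) (Matrix.vecCons L' (Matrix.vecCons L' (fun _ : Fin s => H')))
        (Coh.structureModule X)| ≤ B := by
  haveI : IsLocallyNoetherian X := LocallyOfFiniteType.isLocallyNoetherian π
  choose B₁ hB₁ using exists_bound_dn hd hP hb (fun _ : Fin (s + 1) => H') (fun _ => hH')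
  choose B₂ hB₂ using exists_bound_dn hd hP hb (fun _ : Fin s => H') (fun _ => hH')
  refine ⟨max (|B₁ 0| + |B₁ 1|) (|B₂ 0| + 2 * |B₂ 1| + |B₂ 2|), fun L L' hL ⟨e⟩ => ?_⟩
  have he : PicF.cl L * PicF.cl L' = 1 := H23.PicMul.cl_eq_iff.2 ⟨e⟩
  have hL' : PicF.IsInvertible L' := Groth.Agent.S2122.result L' L ((H23.PicMul.comm L' L).some ≪≫ e)
  have hO : Coh.IsCoh (Coh.structureModule X) := SurfInt.isCoh_structureModule
  have ec : ∀ {m : ℕ} (A : X.Modules) (M : Fin m → X.Modules),
      (fun a => PicF.cl (Matrix.vecCons A M a)) = Fin.cons (PicF.cl A) (fun a => PicF.cl (M a)) :=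
    fun A M => funext fun a => Fin.cases rfl (fun _ => rfl) a
  have hc : ∀ {m : ℕ} {A : X.Modules} {M : Fin m → X.Modules}, PicF.IsInvertible A →
      (∀ a, PicF.IsInvertible (M a)) → ∀ a, PicF.IsInvertible (Matrix.vecCons A M a) :=
    fun hA hM => Fin.cases hA hM
  have e0 : ∀ g : PicF.Cl X → ℤ, (fun x => g (PicF.cl L' ^ 0 * x)) = g := fun g => by simp
  refine ⟨?_, ?_⟩
  · rw [SurfInt.intNum_eq_dn k hd (hc hL' fun _ => hH') hO, ec, SurfInt.dn_cons]
    have h0 := hB₁ 0 L L' hL he
    have h1 := hB₁ 1 L L' hL he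
    rw [e0] at h0
    simp only [pow_one] at h1
    refine le_trans ?_ (le_max_left _ _)
    exact (abs_sub _ _).trans (add_le_add (h0.trans (le_abs_self _)) (h1.trans (le_abs_self _)))
  · rw [SurfInt.intNum_eq_dn k hd (hc hL' (hc hL' fun _ => hH')) hO, ec, SurfInt.dn_cons, ec,
      SurfInt.dn_cons, SurfInt.dn_cons]
    have h0 := hB₂ 0 L L' hL he
    have h1 := hB₂ 1 L L' hL he
    have h2 := hB₂ 2 L L' hL he
    rw [e0] at h0
    simp only [pow_one] at h1
    simp only [pow_two, mul_assoc] at h2
    refine le_trans ?_ (le_max_right _ _)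
    have h3 := (abs_sub _ _).trans (add_le_add (h0.trans (le_abs_self _)) (h1.trans (le_abs_self (B₂ 1))))
    have h4 := (abs_sub _ _).trans (add_le_add (h1.trans (le_abs_self (B₂ 1))) (h2.trans (le_abs_self _)))
    exact ((abs_sub _ _).trans (add_le_add h3 h4)).trans (le_of_eq (by ring))

end Groth.Agent.Pic13Lib
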