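import Groth.Agent.Pic13Lib.Closed
import Groth.Agent.PnCoh.TwistScalar
import Groth.Agent.Lib.CurveLinear
import Groth.Agent.CycLib.StalkSES
import Groth.Agent.AssPtX.Noeth
import Mathlib.GroupTheory.CosetCover
import Mathlib.FieldTheory.IsAlgClosed.Basic

/-!
# Linear forms on projective space acting on twists
-/

set_option linter.style.haveILetI false
set_option linter.unusedSectionVars false
set_option backward.isDefEq.respectTransparency false
set_option backward.isDefEq.respectTransparency.types false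
set_option maxHeartbeats 2000000

universe u

open CategoryTheory CategoryTheory.Limits AlgebraicGeometry TopologicalSpace Opposite MvPolynomial
open Groth.Agent.PnCoh.Finite (D)

noncomputable section

namespace Groth.Agent.Pic13Lib

open Groth.Agent Groth.Agent.PnCoh

/-- A homogeneous polynomial after substituting multiples of one element. -/
theorem aeval_scaled {k : Type u} [CommRing k] {σ : Type*} {B : Type*} [CommRing B] [Algebra k B]
    (c : σ → k) (t : B) {m : ℕ} {f : MvPolynomial σ k} (hf : f.IsHomogeneous m) :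
    MvPolynomial.aeval (fun j => c j • t) f = MvPolynomial.eval c f • t ^ m := by
  rw [f.as_sum, map_sum, map_sum, Finset.sum_smul]
  refine Finset.sum_congr rfl fun e he => ?_
  rw [MvPolynomial.aeval_monomial, MvPolynomial.eval_monomial]
  have hd : (e.sum fun _ i => i) = m := by
    rw [← hf (MvPolynomial.mem_support_iff.1 he)]
    simp [Finsupp.weight_apply, Finsupp.sum]
  simp only [Finsupp.prod, smul_pow, Finset.prod_smul, Finset.prod_pow_eq_pow_sum]
  rw [show ∑ i ∈ e.support, e i = m from hd]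
  simp only [Algebra.smul_def, map_mul, mul_assoc]

variable (k : Type u) [Field k] (n : ℕ)

/-- The linear forms. -/
abbrev Forms : Submodule k (MvPolynomial (Fin (n + 1)) k) := CohB1.polyGrading n k 1

/-- The linear forms vanishing at a point. -/
def vanAt (y : Proj (CohB1.polyGrading n k)) : Submodule k (Forms k n) :=
  ((ProjectiveSpectrum.asHomogeneousIdeal (𝒜 := CohB1.polyGrading n k) y).toIdeal.restrictScalars k).comap
    (Forms k n).subtype

variable {k n}

theorem mem_D_iff (ℓ : Forms k n) (y : Proj (CohB1.polyGrading n k)) :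
    y ∈ D (CohB1.polyGrading n k) (ℓ : MvPolynomial (Fin (n + 1)) k) ↔ ℓ ∉ vanAt k n y :=
  Iff.rfl

theorem exists_X_notMem (y : Proj (CohB1.polyGrading n k)) :
    ∃ j : Fin (n + 1), (⟨X j, MvPolynomial.isHomogeneous_X k j⟩ : Forms k n) ∉ vanAt k n y := by
  obtain ⟨j, hj⟩ := Opens.mem_iSup.1 ((ProjRegular.coords_cover (k := k) (n := n)).ge
    (trivial : y ∈ (⊤ : (Proj (CohB1.polyGrading n k)).Opens)))
  exact ⟨j.down, hj⟩

/-- A point where only a hyperplane of linear forms vanishes is closed. -/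
theorem isClosed_of_sup_eq_top (y : Proj (CohB1.polyGrading n k)) (ℓ : Forms k n)
    (h : vanAt k n y ⊔ Submodule.span k {ℓ} = ⊤) : IsClosed ({y} : Set (Proj (CohB1.polyGrading n k))) := by
  refine closure_eq_iff_isClosed.1 (Set.Subset.antisymm (fun z hz => ?_) subset_closure)
  have hle := (ProjectiveSpectrum.le_iff_mem_closure (𝒜 := CohB1.polyGrading n k) y z).2 hz
  let I := (ProjectiveSpectrum.asHomogeneousIdeal (𝒜 := CohB1.polyGrading n k) y).toIdeal
  let J := (ProjectiveSpectrum.asHomogeneousIdeal (𝒜 := CohB1.polyGrading n k) z).toIdeal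
  have hIJ : I ≤ J := hle
  have hz' : ℓ ∉ vanAt k n z := fun hl => by
    obtain ⟨j, hj⟩ := exists_X_notMem z
    have hsup : vanAt k n y ⊔ Submodule.span k {ℓ} ≤ vanAt k n z :=
      sup_le (fun v hv => hIJ hv) (Submodule.span_le.2 (Set.singleton_subset_iff.2 hl))
    exact hj (hsup (h.ge Submodule.mem_top))
  have hc : ∀ j : Fin (n + 1), ∃ c : k, (X j : MvPolynomial (Fin (n + 1)) k) - c • (ℓ : MvPolynomial _ k) ∈ I := by
    intro j
    obtain ⟨v, hv, w, hw, e⟩ := Submodule.mem_sup.1
      (h.ge (Submodule.mem_top : (⟨X j, MvPolynomial.isHomogeneous_X k j⟩ : Forms k n) ∈ ⊤))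
    obtain ⟨c, rfl⟩ := Submodule.mem_span_singleton.1 hw
    refine ⟨c, ?_⟩
    have e' : (v : MvPolynomial (Fin (n + 1)) k) + c • (ℓ : MvPolynomial _ k) = X j := congrArg Subtype.val e
    rw [← e', add_sub_cancel_right]
    exact hv
  choose c hc using hc
  have hmod : ∀ (m : ℕ) (f : MvPolynomial (Fin (n + 1)) k), f.IsHomogeneous m →
      f - eval c f • (ℓ : MvPolynomial _ k) ^ m ∈ I := by
    intro m f hf
    rw [← aeval_scaled c _ hf, ← Ideal.Quotient.eq]
    have : (Ideal.Quotient.mkₐ k I) =
        (Ideal.Quotient.mkₐ k I).comp (aeval fun j => c j • (ℓ : MvPolynomial (Fin (n + 1)) k)) := by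
      refine MvPolynomial.algHom_ext fun j => ?_
      rw [AlgHom.comp_apply, aeval_X]
      exact Ideal.Quotient.eq.2 (hc j)
    exact DFunLike.congr_fun this f
  have hJI : J ≤ I := fun f hf => by
    have hcomp : ∀ i, MvPolynomial.homogeneousComponent i f ∈ I := fun i => by
      have hfi : MvPolynomial.homogeneousComponent i f ∈ J := by
        have h0 := (ProjectiveSpectrum.asHomogeneousIdeal (𝒜 := CohB1.polyGrading n k) z).isHomogeneous i hf
        rw [← MvPolynomial.decomposition.decompose'_apply] 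
        exact h0
      have hh := MvPolynomial.homogeneousComponent_isHomogeneous i f
      have h1 := hmod i _ hh
      have h2 : eval c (MvPolynomial.homogeneousComponent i f) • (ℓ : MvPolynomial _ k) ^ i ∈ J := by
        have := J.sub_mem hfi (hIJ h1)
        rwa [sub_sub_cancel] at this
      by_cases he : eval c (MvPolynomial.homogeneousComponent i f) = 0
      · rwa [he, zero_smul, sub_zero] at h1
      · exfalso
        have h3 := J.smul_of_tower_mem (eval c (MvPolynomial.homogeneousComponent i f))⁻¹ h2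
        rw [smul_smul, inv_mul_cancel₀ he, one_smul] at h3
        haveI := (ProjectiveSpectrum.isPrime (𝒜 := CohB1.polyGrading n k) z)
        exact hz' ((ProjectiveSpectrum.isPrime (𝒜 := CohB1.polyGrading n k) z).mem_of_pow_mem i h3)
    rw [← MvPolynomial.sum_homogeneousComponent f]
    exact I.sum_mem fun i _ => hcomp i
  exact Set.mem_singleton_iff.2
    (ProjectiveSpectrum.ext (HomogeneousIdeal.ext (le_antisymm hJI hIJ)))

section Scalar

/-- The value of a constant. -/
theorem global_val (c : k) (U : (Proj (CohB1.polyGrading n k)).Opens) (x : U) :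
    ((show Γ(Proj (CohB1.polyGrading n k), U) from Coh.resTop _ (op U)
        (Coh.toGlobal (CohB1.ProjSpace.toSpec n k) c)).1 x).val =
      Localization.mk (C c) (1 : x.1.asHomogeneousIdeal.toIdeal.primeCompl) := by
  obtain ⟨j, hj⟩ := exists_X_notMem (k := k) (n := n) x.1
  have hg : (Finsupp.single j 1 : Fin (n + 1) →₀ ℕ) ≠ 0 := Finsupp.single_ne_zero.2 one_ne_zero
  have hx : x.1 ∈ mOpen k (Finsupp.single j 1 : Fin (n + 1) →₀ ℕ) := hj
  have h := toSpecR_appTop_res (ι := Fin (n + 1)) (R := k) hg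
    ((Scheme.ΓSpecIso (CommRingCat.of k)).inv.hom c) (homOfLE le_top)
  have h' := congrArg (fun s => (s.1 ⟨x.1, hx⟩).val) h
  refine Eq.trans ?_ (h'.trans ?_)
  · rfl
  · rw [show (Scheme.ΓSpecIso (CommRingCat.of k)).hom.hom ((Scheme.ΓSpecIso (CommRingCat.of k)).inv.hom c) = c
      from ConcreteCategory.congr_hom (Scheme.ΓSpecIso (CommRingCat.of k)).inv_hom_id c]
    rfl

theorem xHom_add (a b : Forms k n) (d : ℤ) :
    ProjShift.xHom (𝒜 := CohB1.polyGrading n k) (a + b).2 d = ProjShift.xHom a.2 d + ProjShift.xHom b.2 d := by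
  apply Scheme.Modules.hom_ext
  intro U
  ext s
  refine Subtype.ext (funext fun x => Subtype.ext ?_)
  exact (congrArg ((s.1 x).1 * ·) (Localization.add_mk_self (a.1 : MvPolynomial (Fin (n + 1)) k) _ b.1).symm).trans
    (mul_add _ _ _)

theorem xHom_smul (c : k) (a : Forms k n) (d : ℤ) :
    ProjShift.xHom (𝒜 := CohB1.polyGrading n k) (c • a).2 d =
      ProjShift.xHom a.2 d ≫ Formal.smulModΓ (X := Proj (CohB1.polyGrading n k)) (Twist.twist (CohB1.polyGrading n k) d)
        (Coh.toGlobal (CohB1.ProjSpace.toSpec n k) c) := by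
  apply Scheme.Modules.hom_ext
  intro U
  ext s
  refine Subtype.ext (funext fun x => Subtype.ext ?_)
  refine Eq.trans (b := ((show Γ(Proj (CohB1.polyGrading n k), U) from Coh.resTop _ (op U)
        (Coh.toGlobal (CohB1.ProjSpace.toSpec n k) c)).1 x).val * ((s.1 x).1 * ProjShift.frac x.1 (a : MvPolynomial (Fin (n + 1)) k))) ?_ ?_
  · rw [global_val c U x]
    show (s.1 x).1 * ProjShift.frac x.1 (c • a.1) = _
    rw [mul_left_comm]
    refine congrArg ((s.1 x).1 * ·) ?_
    rw [ProjShift.frac, ProjShift.frac, Localization.mk_mul, mul_one, MvPolynomial.C_mul']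
  · exact (Twist.coe_smul_val d x.1
      ((show Γ(Proj (CohB1.polyGrading n k), U) from Coh.resTop _ (op U)
        (Coh.toGlobal (CohB1.ProjSpace.toSpec n k) c)).1 x)
      ((ProjShift.xSect (𝒜 := CohB1.polyGrading n k) a.2 d (U := op U) s).1 x)).symm

end Scalar

section Action

variable (G : (CohB1.ProjSpace n k).Modules)

/-- `G(d)`. -/
abbrev twP (d : ℤ) : (CohB1.ProjSpace n k).Modules := CohB1.tensorMod G (Twist.twistProjSpace n k d)

/-- Multiplication by a linear form, on `Proj`. -/
def mulFormAux (d : ℤ) (a : Forms k n) :=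
  (DCoh.tensorBi (X := Proj (CohB1.polyGrading n k)) |>.obj G).map (ProjShift.xHom (𝒜 := CohB1.polyGrading n k) a.2 d)

/-- Multiplication by a linear form. -/
def mulForm (d : ℤ) (a : Forms k n) : twP G (d - 1) ⟶ twP G d :=
  mulFormAux G d a

theorem mulFormAux_add (d : ℤ) (a b : Forms k n) :
    mulFormAux G d (a + b) = mulFormAux G d a + mulFormAux G d b := by
  rw [mulFormAux, mulFormAux, mulFormAux, xHom_add, Functor.map_add]

theorem mulFormAux_smul (d : ℤ) (c : k) (a : Forms k n) :
    mulFormAux G d (c • a) = mulFormAux G d a ≫ Formal.smulModΓ (X := Proj (CohB1.polyGrading n k))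
      ((DCoh.tensorBi.obj G).obj (Twist.twist (CohB1.polyGrading n k) d))
      (Coh.toGlobal (CohB1.ProjSpace.toSpec n k) c) := by
  rw [mulFormAux, mulFormAux, xHom_smul, Functor.map_comp, CurveLinear.tensor_map_smul]

theorem mulForm_add (d : ℤ) (a b : Forms k n) :
    mulForm G d (a + b) = mulForm G d a + mulForm G d b :=
  mulFormAux_add G d a b

theorem mulForm_smul (d : ℤ) (c : k) (a : Forms k n) :
    mulForm G d (c • a) = mulForm G d a ≫ Formal.smulMod k (twP G d) c :=
  mulFormAux_smul G d c a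

/-- A linear family of morphisms acts linearly on cohomology. -/
def homLin {X : Scheme.{u}} [X.Over (Spec (CommRingCat.of k))] {V : Type u} [AddCommGroup V] [Module k V]
    {M N : X.Modules} (f : V → (M ⟶ N)) (hadd : ∀ a b, f (a + b) = f a + f b)
    (hsmul : ∀ (c : k) a, f (c • a) = f a ≫ Formal.smulMod k N c) (q : ℕ) :
    V →ₗ[k] (Coh.HH X M q →ₗ[k] Coh.HH X N q) where
  toFun a := PnCoh.Finite.mapLin k (f a) q
  map_add' a b := LinearMap.ext fun x => by
    show Sheaf.H.map ((QCoh.toAbFunctor X).map (f (a + b))) q x = _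
    rw [hadd, Functor.map_add, Sheaf.H.map_add_apply]
    rfl
  map_smul' c a := LinearMap.ext fun x => by
    show Sheaf.H.map ((QCoh.toAbFunctor X).map (f (c • a))) q x =
      PnCoh.Finite.mapLin k (Formal.smulMod k N c) q (PnCoh.Finite.mapLin k (f a) q x)
    refine (PnCoh.Finite.map_map (Y := X.toPresheafedSpace.carrier) ?_ q x).symm
    rw [hsmul, Functor.map_comp]

/-- Multiplication by linear forms on global sections. -/
def mulFormLin (d : ℤ) :
    Forms k n →ₗ[k] (Coh.HH (CohB1.ProjSpace n k) (twP G (d - 1)) 0 →ₗ[k]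
      Coh.HH (CohB1.ProjSpace n k) (twP G d) 0) :=
  homLin (mulForm G d) (mulForm_add G d) (mulForm_smul G d) 0

theorem mulFormLin_apply (d : ℤ) (a : Forms k n) :
    mulFormLin G d a = PnCoh.Finite.mapLin k (mulForm G d a) 0 := rfl

theorem mapLin_zero_injective_of_app {X : Scheme.{u}} [X.Over (Spec (CommRingCat.of k))] {M N : X.Modules}
    (φ : M ⟶ N) (h : ∀ s : Γ(M, ⊤), φ.app ⊤ s = 0 → s = 0) :
    Function.Injective (PnCoh.Finite.mapLin k φ 0) := by
  refine (injective_iff_map_eq_zero _).2 fun x hx => ?_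
  refine (Sheaf.H.equiv₀ (Coh.toAb M) isTerminalTop).injective ((h _ ?_).trans (map_zero _).symm)
  refine (Sheaf.H.equiv₀_naturality isTerminalTop ((QCoh.toAbFunctor X).map φ) x).trans ?_
  exact (congrArg _ hx).trans (map_zero _)

end Action

theorem isWeakAssPoint_iff_of_bijective {X : Scheme.{u}} {M N : X.Modules} (φ : M ⟶ N) {y : X}
    (h : Function.Bijective (CycLib.stalkLin φ y)) :
    Curv2.IsWeakAssPoint M y ↔ Curv2.IsWeakAssPoint N y := by
  have key : ∀ m, LinearMap.ker (LinearMap.toSpanSingleton (X.presheaf.stalk y) (N.presheaf.stalk y)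
      (CycLib.stalkLin φ y m)) =
      LinearMap.ker (LinearMap.toSpanSingleton (X.presheaf.stalk y) (M.presheaf.stalk y) m) := fun m => by
    ext r
    simp only [LinearMap.mem_ker, LinearMap.toSpanSingleton_apply, ← map_smul]
    exact ⟨fun e => h.1 (e.trans (map_zero _).symm), fun e => by rw [e, map_zero]⟩
  constructor
  · rintro ⟨m, hm⟩
    exact ⟨_, by rw [key]; exact hm⟩
  · rintro ⟨m', hm⟩
    obtain ⟨m, rfl⟩ := h.2 m'
    exact ⟨m, by rwa [key] at hm⟩

theorem isWeakAssPoint_congr {X : Scheme.{u}} {M N : X.Modules} (e : M ≅ N) (y : X) :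
    Curv2.IsWeakAssPoint M y ↔ Curv2.IsWeakAssPoint N y := by
  refine isWeakAssPoint_iff_of_bijective e.hom ?_
  haveI : IsIso ((KFlatLib.stalkAb y).map e.hom) := inferInstance
  exact (ConcreteCategory.isIso_iff_bijective _).1 this

variable {G : (CohB1.ProjSpace n k).Modules}

theorem bijective_mulForm_stalk (a : Forms k n) {y : Proj (CohB1.polyGrading n k)} (hy : a ∉ vanAt k n y)
    (d : ℤ) : Function.Bijective (CycLib.stalkLin (mulForm G d a) y) :=
  ProjShift.bijective_stalkAb a.2 G hy d

/-- Associated points do not change under twisting. -/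
theorem isWeakAssPoint_twP (d : ℤ) (y : CohB1.ProjSpace n k) :
    Curv2.IsWeakAssPoint (twP G d) y ↔ Curv2.IsWeakAssPoint G y := by
  have step : ∀ e : ℤ, Curv2.IsWeakAssPoint (twP G (e - 1)) y ↔ Curv2.IsWeakAssPoint (twP G e) y := by
    intro e
    obtain ⟨j, hj⟩ := exists_X_notMem (k := k) (n := n) y
    exact isWeakAssPoint_iff_of_bijective _ (bijective_mulForm_stalk _ hj e)
  induction d using Int.induction_on with
  | zero =>
    exact isWeakAssPoint_congr
      ((DCoh.tensorBi.obj G).mapIso (twistProjSpace_zero k n).some.symm ≪≫ AmpleVan.twUnit.app G) y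
  | succ i hi =>
    refine Iff.trans ?_ hi
    have := step ((i : ℤ) + 1)
    rw [show (i : ℤ) + 1 - 1 = i by omega] at this
    exact this.symm
  | pred i hi => exact (step (-(i : ℤ))).trans hi

/-- A form avoiding the associated points is injective on global sections. -/
theorem injective_mulFormLin (hG : Coh.IsCoh G) (d : ℤ) (a : Forms k n)
    (ha : ∀ y : Proj (CohB1.polyGrading n k), Curv2.IsWeakAssPoint (X := CohB1.ProjSpace n k) G y →
      a ∉ vanAt k n y) :
    Function.Injective (mulFormLin G d a) := by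
  rw [mulFormLin_apply]
  refine mapLin_zero_injective_of_app (mulForm G d a) fun s hs => ?_
  refine AssPtX.eq_zero_of_germ (X := CohB1.ProjSpace n k) (ProjRegular.isCoh_twistBy hG (d - 1)).1 s
    fun y _ hy => ?_
  refine (bijective_mulForm_stalk a (ha y ((isWeakAssPoint_twP (d - 1) y).1 hy)) d).1 ?_
  rw [map_zero]
  exact (CycLib.stalkAdd_germ (mulForm G d a) (U := ⊤) y trivial s).trans ((congrArg _ hs).trans (map_zero _))

instance compactSpace_projSpace : CompactSpace (CohB1.ProjSpace n k) :=
  haveI : IsNoetherian (Proj (CohB1.polyGrading n k)) := Proj16.isNoetherian_proj _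
  inferInstanceAs (CompactSpace (Proj (CohB1.polyGrading n k)))

/-- A form avoiding the associated points. -/
theorem exists_form_avoiding [Infinite k] (hG : Coh.IsCoh G)
    (hass : ∀ x : CohB1.ProjSpace n k, Curv2.IsWeakAssPoint G x → ¬ IsClosed ({x} : Set _)) :
    ∃ a : Forms k n, ∀ y, Curv2.IsWeakAssPoint (X := CohB1.ProjSpace n k) G y → a ∉ vanAt k n y := by
  haveI := isLocallyNoetherian_projSpace k n
  have hfin : {y : CohB1.ProjSpace n k | Curv2.IsWeakAssPoint G y}.Finite := by
    refine (AssPtX.finite_assPoints hG (U := ⊤) (by simpa using isCompact_univ)).subset fun y hy => ?_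
    exact ⟨trivial, AssPtX.isAssPoint_iff.2 hy⟩
  haveI : Finite {y : CohB1.ProjSpace n k | Curv2.IsWeakAssPoint G y} := hfin
  by_contra hcon
  push Not at hcon
  obtain ⟨y, hy⟩ := Subspace.exists_eq_top_of_iUnion_eq_univ
    (p := fun y : {y : CohB1.ProjSpace n k | Curv2.IsWeakAssPoint G y} => vanAt k n y.1)
    (Set.eq_univ_of_forall fun a => let ⟨y, h, h'⟩ := hcon a; Set.mem_iUnion.2 ⟨⟨y, h⟩, h'⟩)
  exact hass y.1 y.2 (isClosed_of_sup_eq_top y.1 0 (by rw [hy, top_sup_eq]))

/-- Sections drop strictly under negative twists. -/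
theorem finrank_h0_twP_pred [IsAlgClosed k] (hG : Coh.IsCoh G)
    (hass : ∀ x : CohB1.ProjSpace n k, Curv2.IsWeakAssPoint G x → ¬ IsClosed ({x} : Set _)) (d : ℤ)
    (h0 : Nontrivial (Coh.HH (CohB1.ProjSpace n k) (twP G d) 0)) :
    Module.finrank k (Coh.HH (CohB1.ProjSpace n k) (twP G (d - 1)) 0) <
      Module.finrank k (Coh.HH (CohB1.ProjSpace n k) (twP G d) 0) := by
  haveI := isLocallyNoetherian_projSpace k n
  haveI := PnCoh.Finite.projSpace_finite_HH n k _ (ProjRegular.isCoh_twistBy hG d) 0
  haveI := PnCoh.Finite.projSpace_finite_HH n k _ (ProjRegular.isCoh_twistBy hG (d - 1)) 0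
  have hfin : {y : CohB1.ProjSpace n k | Curv2.IsWeakAssPoint G y}.Finite := by
    refine (AssPtX.finite_assPoints hG (U := ⊤) (by simpa using isCompact_univ)).subset fun y hy => ?_
    exact ⟨trivial, AssPtX.isAssPoint_iff.2 hy⟩
  haveI : Finite {y : CohB1.ProjSpace n k | Curv2.IsWeakAssPoint G y} := hfin
  have hne : ∀ (y : CohB1.ProjSpace n k) (a : Forms k n), Curv2.IsWeakAssPoint G y →
      vanAt k n y ⊔ Submodule.span k {a} ≠ ⊤ := fun y a hy h => hass y hy (isClosed_of_sup_eq_top y a h)
  obtain ⟨a, ha'⟩ := exists_form_avoiding hG hass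
  have ha : ∀ y : {y : CohB1.ProjSpace n k | Curv2.IsWeakAssPoint G y}, a ∉ vanAt k n y.1 :=
    fun y => ha' y.1 y.2
  obtain ⟨b, hb⟩ : ∃ b : Forms k n, ∀ y : {y : CohB1.ProjSpace n k | Curv2.IsWeakAssPoint G y},
      b ∉ vanAt k n y.1 ⊔ Submodule.span k {a} := by
    by_contra hcon
    push Not at hcon
    obtain ⟨y, hy⟩ := Subspace.exists_eq_top_of_iUnion_eq_univ
      (Set.eq_univ_of_forall fun b => Set.mem_iUnion.2 (hcon b))
    exact hne y.1 a y.2 hy
  have hainj := injective_mulFormLin hG d a fun y hy => ha ⟨y, hy⟩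
  refine lt_of_le_of_ne (LinearMap.finrank_le_finrank_of_injective hainj) fun heq => ?_
  let ea := LinearEquiv.ofInjectiveOfFinrankEq (mulFormLin G d a) hainj heq
  haveI : Nontrivial (Coh.HH (CohB1.ProjSpace n k) (twP G (d - 1)) 0) := ea.toEquiv.nontrivial
  obtain ⟨c, hc⟩ := Module.End.exists_eigenvalue
    (ea.symm.toLinearMap.comp (mulFormLin G d b))
  obtain ⟨v, hv⟩ := hc.exists_hasEigenvector
  have hzero : mulFormLin G d (b - c • a) v = 0 := by
    have h1 := congrArg ea hv.apply_eq_smul
    rw [LinearMap.comp_apply, LinearEquiv.coe_coe, ea.apply_symm_apply, map_smul] at h1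
    rw [map_sub, map_smul, LinearMap.sub_apply, LinearMap.smul_apply, h1]
    exact sub_self _
  refine hv.2 ((injective_mulFormLin hG d (b - c • a) fun y hy hmem => hb ⟨y, hy⟩ ?_)
    (hzero.trans (map_zero _).symm))
  rw [← sub_add_cancel b (c • a)]
  exact Submodule.add_mem_sup hmem (Submodule.smul_mem _ _ (Submodule.mem_span_singleton_self a))

end Groth.Agent.Pic13Lib
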