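import Groth.Agent.Pic13Lib.Linear

/-!
# Sections of negative twists
-/

set_option linter.style.haveILetI false
set_option backward.isDefEq.respectTransparency false
set_option backward.isDefEq.respectTransparency.types false
set_option maxHeartbeats 400000

universe u

open CategoryTheory CategoryTheory.Limits AlgebraicGeometry

noncomputable section

namespace Groth.Agent.Pic13Lib

variable {k : Type u} [Field k] {n : ℕ}

theorem tensor_trivial {X : Scheme.{u}} (F : X.Modules) {N : X.Modules} (e : Coh.structureModule X ≅ N) :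
    Nonempty (CohB1.tensorMod F N ≅ F) :=
  ⟨(DCoh.tensorBi.obj F).mapIso e.symm ≪≫ AmpleVan.twUnit.app F⟩

theorem twP_zero (F : (CohB1.ProjSpace n k).Modules) : Nonempty (twP F 0 ≅ F) :=
  tensor_trivial F (twistProjSpace_zero k n).some

theorem finrank_twP_zero (F : (CohB1.ProjSpace n k).Modules) (q : ℕ) :
    Module.finrank k (Coh.HH (CohB1.ProjSpace n k) (twP F 0) q) =
      Module.finrank k (Coh.HH (CohB1.ProjSpace n k) F q) :=
  HilbPoly.finrank_HH_iso k (twP_zero F).some q

variable [IsAlgClosed k]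

theorem h0_twP_step {F : (CohB1.ProjSpace n k).Modules} (hF : Coh.IsCoh F)
    (hass : ∀ x, Curv2.IsAssPoint F x → ¬ IsClosed ({x} : Set (CohB1.ProjSpace n k))) (d : ℤ) :
    Module.finrank k (Coh.HH (CohB1.ProjSpace n k) (twP F (d - 1)) 0) ≤
      Module.finrank k (Coh.HH (CohB1.ProjSpace n k) (twP F d) 0) - 1 := by
  haveI := isLocallyNoetherian_projSpace k n
  haveI := PnCoh.Finite.projSpace_finite_HH n k _ (ProjRegular.isCoh_twistBy hF d) 0
  haveI := PnCoh.Finite.projSpace_finite_HH n k _ (ProjRegular.isCoh_twistBy hF (d - 1)) 0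
  have hweak : ∀ x, Curv2.IsWeakAssPoint F x → ¬ IsClosed ({x} : Set (CohB1.ProjSpace n k)) :=
    fun x hx => hass x (AssPtX.isAssPoint_iff.2 hx)
  rcases subsingleton_or_nontrivial (Coh.HH (CohB1.ProjSpace n k) (twP F d) 0) with h | h
  · obtain ⟨j, hj⟩ : ∃ a : Forms k n, ∀ y, Curv2.IsWeakAssPoint (X := CohB1.ProjSpace n k) F y →
        a ∉ vanAt k n y := exists_form_avoiding hF hweak
    have := LinearMap.finrank_le_finrank_of_injective (injective_mulFormLin hF d j hj)
    rw [Module.finrank_zero_of_subsingleton (R := k) (M := Coh.HH (CohB1.ProjSpace n k) (twP F d) 0)] at this ⊢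
    omega
  · have := finrank_h0_twP_pred hF hweak d h
    omega

end Groth.Agent.Pic13Lib

namespace Groth.Agent.Pic13Lib

variable {k : Type u} [Field k] [IsAlgClosed k] {n : ℕ}

theorem h0_twP_neg {F : (CohB1.ProjSpace n k).Modules} (hF : Coh.IsCoh F)
    (hass : ∀ x, Curv2.IsAssPoint F x → ¬ IsClosed ({x} : Set (CohB1.ProjSpace n k))) :
    ∀ m : ℕ, Module.finrank k (Coh.HH (CohB1.ProjSpace n k) (twP F (-(m : ℤ))) 0) ≤
      Module.finrank k (Coh.HH (CohB1.ProjSpace n k) F 0) - m
  | 0 => by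
    rw [Nat.cast_zero, neg_zero, finrank_twP_zero, Nat.sub_zero]
  | m + 1 => by
    have h := h0_twP_step hF hass (-(m : ℤ))
    have h' := h0_twP_neg hF hass m
    rw [show -((m + 1 : ℕ) : ℤ) = -(m : ℤ) - 1 by omega]
    omega

end Groth.Agent.Pic13Lib
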