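import Groth.Agent.SurfInt.Push
import Groth.Agent.SurfInt.Curves
import Groth.Agent.HilbPoly.Poly
import Groth.Agent.HilbPoly.Step

/-!
# Intersection numbers depend only on numerical classes
-/

set_option linter.style.haveILetI false
set_option linter.unusedSectionVars false
set_option backward.isDefEq.respectTransparency false
set_option backward.isDefEq.respectTransparency.types false
set_option maxHeartbeats 1000000

universe u

open CategoryTheory CategoryTheory.Limits AlgebraicGeometry TopologicalSpace Opposite MonoidalCategory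

attribute [local instance] HasDerivedCategory.standard

noncomputable section

namespace Groth.Agent.Pic13Lib

open Groth.Agent
open scoped Groth.Agent.H23.PicMul

variable (k : Type u) [Field k] {X : Scheme.{u}} [X.Over (Spec (CommRingCat.of k))]
  [IsProper (X ↘ Spec (CommRingCat.of k))]

theorem chiCl_tw {N : X.Modules} (F : X.Modules) :
    SurfInt.chiCl k ((AmpleVan.tw N).obj F) = fun x => SurfInt.chiCl k F (PicF.cl N * x) := by
  show SurfInt.chiCl k (CohB1.tensorMod F N) = _
  rw [SurfInt.chiCl_congr k (H23.PicMul.comm F N).some, SurfInt.chiCl_tensor]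

/-- Alternating sums are additive in the module. -/
theorem additive_dn : ∀ {r : ℕ} {M : Fin r → X.Modules}, (∀ i, PicF.IsInvertible (M i)) →
    HilbPoly.Additive (fun F => SurfInt.dn (SurfInt.chiCl k F) (fun i => PicF.cl (M i)))
  | 0, M, _ => by
    have e : (fun F => SurfInt.dn (SurfInt.chiCl k F) (fun i => PicF.cl (M i))) = Curv2.euler k X :=
      funext fun F => by rw [SurfInt.dn_zero, SurfInt.chiCl_one]
    rw [e]
    exact HilbPoly.additive_euler k
  | r + 1, M, hM => by
    haveI : IsNoetherian X := SurfInt.noeth k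
    have ih := additive_dn (M := fun i => M i.succ) fun i => hM i.succ
    have e : (fun F => SurfInt.dn (SurfInt.chiCl k F) (fun i => PicF.cl (M i))) =
        fun F => SurfInt.dn (SurfInt.chiCl k F) (fun i => PicF.cl (M i.succ)) -
          SurfInt.dn (SurfInt.chiCl k ((AmpleVan.tw (M 0)).obj F)) (fun i => PicF.cl (M i.succ)) :=
      funext fun F => by rw [SurfInt.dn_succ, chiCl_tw]
    rw [e]
    exact ih.sub (ih.shift (hM 0))

/-- Two invertible modules have the same degree on all integral curves. -/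
def SameCurveDeg (A B : X.Modules) : Prop :=
  ∀ (Y : Scheme.{u}) (ι : Y ⟶ X) [IsClosedImmersion ι], IsIntegral Y → topologicalKrullDim Y = 1 →
    Pic13.curveDeg k (ι ≫ (X ↘ Spec (CommRingCat.of k))) ((Scheme.Modules.pullback ι).obj A) =
      Pic13.curveDeg k (ι ≫ (X ↘ Spec (CommRingCat.of k))) ((Scheme.Modules.pullback ι).obj B)

theorem degOn_push_eq {A B : X.Modules} (hA : PicF.IsInvertible A) (hB : PicF.IsInvertible B)
    (h : SameCurveDeg k A B) {Z : Scheme.{u}} (i : Z ⟶ X) [IsClosedImmersion i] [IsIntegral Z]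
    (hd : topologicalKrullDim Z = 1) :
    SurfInt.degOn k ((Coh.push i).obj (Coh.structureModule Z)) A =
      SurfInt.degOn k ((Coh.push i).obj (Coh.structureModule Z)) B := by
  letI := SurfInt.overComp k i
  have hi : i ≫ (X ↘ Spec (CommRingCat.of k)) = Z ↘ Spec (CommRingCat.of k) := rfl
  haveI := SurfInt.isProper_comp k i hi
  haveI := SurfInt.noeth k (X := Z)
  show SurfInt.degOn k ((Scheme.Modules.pushforward i).obj (Coh.structureModule Z)) A =
    SurfInt.degOn k ((Scheme.Modules.pushforward i).obj (Coh.structureModule Z)) B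
  rw [SurfInt.degOn, SurfInt.degOn, SurfInt.euler_push_tensor k i hi hA, SurfInt.euler_push_tensor k i hi hB]
  have h' := h Z i inferInstance hd
  change FGA.eulerCharLE k Z ((Scheme.Modules.pullback i).obj A) 1 - FGA.eulerCharLE k Z (Coh.structureModule Z) 1 =
    FGA.eulerCharLE k Z ((Scheme.Modules.pullback i).obj B) 1 - FGA.eulerCharLE k Z (Coh.structureModule Z) 1 at h'
  rw [SurfInt.eulerCharLE_eq_euler k (d := 1) hd.le (AmpleVan.isCoh_invertible (PicClLib.isInvertible_pullback i hA)).1,
    SurfInt.eulerCharLE_eq_euler k (d := 1) hd.le (AmpleVan.isCoh_invertible (PicClLib.isInvertible_pullback i hB)).1] at h'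
  omega

omit [X.Over (Spec (CommRingCat.of k))] [IsProper (X ↘ Spec (CommRingCat.of k))] in
theorem dim_eq_closure {Z : Scheme.{u}} (i : Z ⟶ X) [IsClosedImmersion i] {ξ : X}
    (hr : Set.range i = closure {ξ}) :
    topologicalKrullDim Z = topologicalKrullDim ↥(closure ({ξ} : Set X)) := by
  rw [← hr]
  exact IsHomeomorph.topologicalKrullDim_eq _ i.isClosedEmbedding.isEmbedding.toHomeomorph.isHomeomorph

/-- The top alternating sum only depends on the numerical class of its first entry. -/
theorem dn_cons_congr : ∀ {r : ℕ} {A B : X.Modules}, PicF.IsInvertible A → PicF.IsInvertible B →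
    SameCurveDeg k A B → ∀ {M : Fin r → X.Modules}, (∀ i, PicF.IsInvertible (M i)) →
    ∀ {F : X.Modules}, Coh.IsCoh F → topologicalKrullDim ↥(CohB1.support F) ≤ ((r + 1 : ℕ) : WithBot ℕ∞) →
      SurfInt.dn (SurfInt.chiCl k F) (fun i => PicF.cl ((Fin.cons A M : Fin (r + 1) → X.Modules) i)) =
        SurfInt.dn (SurfInt.chiCl k F) (fun i => PicF.cl ((Fin.cons B M : Fin (r + 1) → X.Modules) i)) := by
  intro r
  induction r with
  | zero =>
    intro A B hA hB hAB M hM F hF hd
    haveI : IsNoetherian X := SurfInt.noeth k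
    let φ : X.Modules → ℤ := fun F => SurfInt.dn (SurfInt.chiCl k F) (fun i => PicF.cl ((Fin.cons A M : Fin 1 → X.Modules) i)) -
      SurfInt.dn (SurfInt.chiCl k F) (fun i => PicF.cl ((Fin.cons B M : Fin 1 → X.Modules) i))
    have hinv : ∀ {C : X.Modules}, PicF.IsInvertible C → ∀ i, PicF.IsInvertible ((Fin.cons C M : Fin 1 → X.Modules) i) :=
      fun hC => Fin.cases hC hM
    have hφ : HilbPoly.Additive φ := (additive_dn k (hinv hA)).sub (additive_dn k (hinv hB))
    refine sub_eq_zero.1 (show φ F = 0 from ?_)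
    refine QCoh.devissage (fun M => φ M = 0) (fun M M' e h => (hφ.iso M M' e).symm.trans h)
      (fun M hM => hφ.zero_of_isZero hM) (CohB1.support F)
      (fun S hS h₁ h₂ h₃ _ e₁ e₃ => by rw [hφ.add S hS h₁ h₂ h₃, e₁, e₃, add_zero])
      (fun ξ hξ _ Z i _ _ hr => ?_)
      (fun S hS h₁ h₂ h₃ _ e₂ e₃ => by
        have := hφ.add S hS h₁ h₂ h₃
        rw [e₂, e₃, add_zero] at this
        exact this.symm) hF subset_rfl
    have hO : Coh.IsCoh ((Coh.push i).obj (Coh.structureModule Z)) := QCoh.isCoh_push_structure i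
    have hle : topologicalKrullDim Z ≤ ((1 : ℕ) : WithBot ℕ∞) :=
      (dim_eq_closure i hr).trans_le ((H23.TopDim.dim_le_dim_of_subset hξ).trans hd)
    rcases hle.lt_or_eq with hlt | heq
    · have hs : topologicalKrullDim ↥(CohB1.support ((Coh.push i).obj (Coh.structureModule Z))) < ((1 : ℕ) : WithBot ℕ∞) :=
        ((H23.TopDim.dim_le_dim_of_subset ((QCoh.support_push_subset i QCoh.isQCoh_structureModule).trans hr.le)).trans_eq
          (dim_eq_closure i hr).symm).trans_lt hlt
      show _ - _ = (0 : ℤ)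
      rw [SurfInt.dn_chiCl_eq_zero k (hinv hA) hO hs, SurfInt.dn_chiCl_eq_zero k (hinv hB) hO hs, sub_zero]
    · have hdeg := degOn_push_eq k hA hB hAB i (by simpa using heq)
      show _ - _ = (0 : ℤ)
      simp only [SurfInt.dn_succ, SurfInt.dn_zero, Fin.cons_zero, mul_one, SurfInt.chiCl_one, SurfInt.chiCl_cl]
      rw [SurfInt.euler_comm k A, SurfInt.euler_comm k B]
      rw [SurfInt.degOn, SurfInt.degOn] at hdeg
      omega
  | succ r ih =>
    intro A B hA hB hAB M hM F hF hd
    haveI : IsNoetherian X := SurfInt.noeth k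
    let φ : X.Modules → ℤ := fun F => SurfInt.dn (SurfInt.chiCl k F) (fun i => PicF.cl ((Fin.cons A M : Fin (r + 2) → X.Modules) i)) -
      SurfInt.dn (SurfInt.chiCl k F) (fun i => PicF.cl ((Fin.cons B M : Fin (r + 2) → X.Modules) i))
    let M' : Fin r → X.Modules := fun i => M i.succ
    let ψ : X.Modules → ℤ := fun F => SurfInt.dn (SurfInt.chiCl k F) (fun i => PicF.cl ((Fin.cons A M' : Fin (r + 1) → X.Modules) i)) -
      SurfInt.dn (SurfInt.chiCl k F) (fun i => PicF.cl ((Fin.cons B M' : Fin (r + 1) → X.Modules) i))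
    have hinv : ∀ {C : X.Modules}, PicF.IsInvertible C → ∀ i, PicF.IsInvertible ((Fin.cons C M : Fin (r + 2) → X.Modules) i) :=
      fun hC => Fin.cases hC hM
    have hinv' : ∀ {C : X.Modules}, PicF.IsInvertible C → ∀ i, PicF.IsInvertible ((Fin.cons C M' : Fin (r + 1) → X.Modules) i) :=
      fun hC => Fin.cases hC fun i => hM i.succ
    have hφ : HilbPoly.Additive φ := (additive_dn k (hinv hA)).sub (additive_dn k (hinv hB))
    have hψ : HilbPoly.Additive ψ := (additive_dn k (hinv' hA)).sub (additive_dn k (hinv' hB))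
    have hstep : ∀ G : X.Modules, φ G = ψ G - ψ (CohB1.tensorMod G (M 0)) := by
      intro G
      show _ - _ = (_ - _) - (_ - _)
      rw [show SurfInt.chiCl k (CohB1.tensorMod G (M 0)) = fun x => SurfInt.chiCl k G (PicF.cl (M 0) * x) from
        chiCl_tw k G]
      simp only [SurfInt.dn_succ, Fin.cons_zero, Fin.cons_succ, M', mul_left_comm]
      ring
    refine sub_eq_zero.1 (show φ F = 0 from ?_)
    refine QCoh.devissage (fun M => φ M = 0) (fun M M' e h => (hφ.iso M M' e).symm.trans h)
      (fun M hM => hφ.zero_of_isZero hM) (CohB1.support F)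
      (fun S hS h₁ h₂ h₃ _ e₁ e₃ => by rw [hφ.add S hS h₁ h₂ h₃, e₁, e₃, add_zero])
      (fun ξ hξ _ Z i _ _ hr => ?_)
      (fun S hS h₁ h₂ h₃ _ e₂ e₃ => by
        have := hφ.add S hS h₁ h₂ h₃
        rw [e₂, e₃, add_zero] at this
        exact this.symm) hF subset_rfl
    obtain ⟨C₁, C₂, hC₁, hC₂, hs₁, hx₁, hs₂, hx₂, hC⟩ := HilbPoly.exists_step i hr (hM 0)
    have hcl : topologicalKrullDim ↥(closure ({ξ} : Set X)) ≤ ((r + 1 + 1 : ℕ) : WithBot ℕ∞) :=
      (H23.TopDim.dim_le_dim_of_subset hξ).trans hd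
    have h1 : ψ C₁ = 0 := sub_eq_zero.2 (ih hA hB hAB (fun i => hM i.succ) hC₁ (HilbPoly.le_of_lt_succ
      (HilbPoly.dim_lt_closure hcl (QCoh.isClosed_support_of_isFT hC₁.1 hC₁.2) hs₁ hx₁)))
    have h2 : ψ C₂ = 0 := sub_eq_zero.2 (ih hA hB hAB (fun i => hM i.succ) hC₂ (HilbPoly.le_of_lt_succ
      (HilbPoly.dim_lt_closure hcl (QCoh.isClosed_support_of_isFT hC₂.1 hC₂.2) hs₂ hx₂)))
    have h3 := hC _ hψ
    rw [h1, h2, add_zero, add_zero] at h3
    rw [hstep, h3, sub_self]

/-- The top alternating sum only depends on numerical classes. -/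
theorem dn_congr_num {r : ℕ} {M M' : Fin r → X.Modules} (hM : ∀ i, PicF.IsInvertible (M i))
    (hM' : ∀ i, PicF.IsInvertible (M' i)) (h : ∀ i, SameCurveDeg k (M i) (M' i))
    {F : X.Modules} (hF : Coh.IsCoh F) (hd : topologicalKrullDim ↥(CohB1.support F) ≤ (r : WithBot ℕ∞)) :
    SurfInt.dn (SurfInt.chiCl k F) (fun i => PicF.cl (M i)) =
      SurfInt.dn (SurfInt.chiCl k F) (fun i => PicF.cl (M' i)) := by
  classical
  suffices ∀ s : Finset (Fin r), SurfInt.dn (SurfInt.chiCl k F) (fun i => PicF.cl (M i)) =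
      SurfInt.dn (SurfInt.chiCl k F) (fun i => PicF.cl (if i ∈ s then M' i else M i)) by
    simpa using this Finset.univ
  intro s
  induction s using Finset.induction_on with
  | empty => simp
  | @insert j t hj ih =>
    refine ih.trans ?_
    rcases r with _ | r
    · exact j.elim0
    let N : Fin (r + 1) → X.Modules := fun i => if i ∈ t then M' i else M i
    let N' : Fin (r + 1) → X.Modules := fun i => if i ∈ insert j t then M' i else M i
    have hN : ∀ i, PicF.IsInvertible (N i) := fun i => by simp only [N]; split_ifs; exacts [hM' i, hM i]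
    let σ : Equiv.Perm (Fin (r + 1)) := Equiv.swap 0 j
    show SurfInt.dn (SurfInt.chiCl k F) (fun i => PicF.cl (N i)) = SurfInt.dn (SurfInt.chiCl k F) (fun i => PicF.cl (N' i))
    rw [← SurfInt.dn_perm (SurfInt.chiCl k F) (fun i => PicF.cl (N i)) σ,
      ← SurfInt.dn_perm (SurfInt.chiCl k F) (fun i => PicF.cl (N' i)) σ]
    have e1 : (fun i => N (σ i)) = Fin.cons (M j) (fun i : Fin r => N (σ i.succ)) := by
      funext i
      refine Fin.cases ?_ (fun i => ?_) i
      · simp [N, σ, hj]
      · rfl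
    have e2 : (fun i => N' (σ i)) = Fin.cons (M' j) (fun i : Fin r => N (σ i.succ)) := by
      funext i
      refine Fin.cases ?_ (fun i => ?_) i
      · simp [N', σ]
      · have hne : σ i.succ ≠ j := fun he => Fin.succ_ne_zero i (σ.injective (he.trans (Equiv.swap_apply_left 0 j).symm))
        simp only [Fin.cons_succ, N, N', Finset.mem_insert, hne, false_or]
    show SurfInt.dn _ (fun i => PicF.cl ((fun i => N (σ i)) i)) = SurfInt.dn _ (fun i => PicF.cl ((fun i => N' (σ i)) i))
    rw [e1, e2]
    exact dn_cons_congr k (hM j) (hM' j) (h j) (fun i => hN _) hF hd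

end Groth.Agent.Pic13Lib
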