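import Groth.Agent.Pic13Lib.Tau
import Groth.Agent.S1455

/-!
# Families split into flat pieces; finitely many values of the Euler characteristic
-/

set_option backward.isDefEq.respectTransparency false
set_option backward.isDefEq.respectTransparency.types false
set_option linter.style.haveILetI false
set_option maxHeartbeats 1000000

universe u

open CategoryTheory CategoryTheory.Limits AlgebraicGeometry TopologicalSpace Opposite

namespace Groth.Agent.Pic13Lib

open Groth.Agent

/-- Flatness over the base only depends on the isomorphism class. -/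
theorem isFlatOver_of_iso' {Z S : Scheme.{u}} (f : Z ⟶ S) {A B : Z.Modules} (e : A ≅ B)
    (h : FlatMod.IsFlatOver f A) : FlatMod.IsFlatOver f B := fun x => by
  let i : A.presheaf.stalk x ≃ₗ[Z.presheaf.stalk x] B.presheaf.stalk x :=
    ((DerSch.stalkFunctor Z x).mapIso e).toLinearEquiv
  show FlatMod.IsFlatOverAt f B x
  unfold FlatMod.IsFlatOverAt
  letI := FlatMod.moduleStalkOver f A x
  letI := FlatMod.moduleStalkOver f B x
  haveI : Module.Flat (S.presheaf.stalk (f x)) (A.presheaf.stalk x) := h x
  let i' : A.presheaf.stalk x ≃ₗ[S.presheaf.stalk (f x)] B.presheaf.stalk x :=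
    { toFun := i
      invFun := i.symm
      left_inv := i.left_inv
      right_inv := i.right_inv
      map_add' := i.map_add
      map_smul' := fun r m => i.map_smul ((f.stalkMap x).hom r) m }
  exact Module.Flat.of_linearEquiv i'.symm

variable {k : Type u} [Field k] [IsAlgClosed k] {X : Scheme.{u}} [X.Over (Spec (CommRingCat.of k))]

local notation "π" => (X ↘ Spec (CommRingCat.of k))

/-- A coherent family is made of finitely many flat ones. -/
theorem exists_flat_pieces [IsProper π] {T : Scheme.{u}} (q : T ⟶ Spec (CommRingCat.of k))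
    [LocallyOfFiniteType q] [QuasiCompact q] (G : (Pic13.prodK k X q).Modules) (hG : Coh.IsCoh G) :
    ∃ (r : ℕ) (Y : Fin r → Scheme.{u}) (q' : ∀ a, Y a ⟶ Spec (CommRingCat.of k)),
      (∀ a, LocallyOfFiniteType (q' a)) ∧ (∀ a, CompactSpace (Y a)) ∧
      ∃ G' : ∀ a, (Pic13.prodK k X (q' a)).Modules, (∀ a, Coh.IsCoh (G' a)) ∧
        (∀ a, FlatMod.IsFlatOver (pullback.snd π (q' a)) (G' a)) ∧
        ∀ (t : Spec (CommRingCat.of k) ⟶ T) (ht : t ≫ q = 𝟙 _), ∃ (a : Fin r) (t' : Spec (CommRingCat.of k) ⟶ Y a)
          (ht' : t' ≫ q' a = 𝟙 _),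
          Nonempty (Pic13.fibreMod k X (q' a) t' ht' (G' a) ≅ Pic13.fibreMod k X q t ht G) := by
  haveI : CompactSpace T := QuasiCompact.compactSpace_of_compactSpace q
  haveI : IsLocallyNoetherian T := LocallyOfFiniteType.isLocallyNoetherian q
  haveI : IsNoetherian T := { }
  haveI : IsLocallyNoetherian (Pic13.prodK k X q) := LocallyOfFiniteType.isLocallyNoetherian (pullback.snd π q)
  obtain ⟨r, I, -, hlast, hfirst, -, hflat⟩ := S1455.result (pullback.snd π q) G hG.1
    (QCoh.isCoh_iff_isFP.1 hG)
  let st : (a : Fin r) → ((I a.castSucc).subschemeι ⁻¹ᵁ (I a.succ).support.compl).toScheme ⟶ T := fun a =>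
    ((I a.castSucc).subschemeι ⁻¹ᵁ (I a.succ).support.compl).ι ≫ (I a.castSucc).subschemeι
  let g : ∀ a, Pic13.prodK k X (st a ≫ q) ⟶ Pic13.prodK k X q := fun a =>
    pullback.map π (st a ≫ q) π q (𝟙 X) (st a) (𝟙 _) (by simp) (by simp)
  have hsq : ∀ a, IsPullback (g a) (pullback.snd π (st a ≫ q)) (pullback.snd π q) (st a) := fun a =>
    IsPullback.of_right (by
      rw [show g a ≫ pullback.fst π q = pullback.fst π (st a ≫ q) by simp [g]]
      exact IsPullback.of_hasPullback π (st a ≫ q)) (pullback.lift_snd _ _ _) (IsPullback.of_hasPullback π q)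
  refine ⟨r, _, fun a => st a ≫ q, fun a => inferInstance, fun a => ?_, fun a => (Scheme.Modules.pullback (g a)).obj G,
    fun a => ?_, fun a => ?_, fun t ht => ?_⟩
  · haveI : NoetherianSpace ((I a.castSucc).subschemeι ⁻¹ᵁ (I a.succ).support.compl).toScheme :=
      (st a).isEmbedding.isInducing.noetherianSpace
    infer_instance
  · haveI : IsLocallyNoetherian (Pic13.prodK k X (st a ≫ q)) :=
      haveI : IsLocallyNoetherian ((I a.castSucc).subschemeι ⁻¹ᵁ (I a.succ).support.compl).toScheme :=
        LocallyOfFiniteType.isLocallyNoetherian (st a)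
      LocallyOfFiniteType.isLocallyNoetherian (pullback.snd π (st a ≫ q))
    exact ZClosLib.isCoh_pullback _ hG
  · have hsq' : IsPullback (hsq a).isoPullback.hom (pullback.snd π (st a ≫ q))
        (pullback.snd (pullback.snd π q) (st a)) (𝟙 _) :=
      IsPullback.of_horiz_isIso ⟨by rw [Category.comp_id]; exact (hsq a).isoPullback_hom_snd⟩
    refine isFlatOver_of_iso' (pullback.snd π (st a ≫ q))
      ((Scheme.Modules.pullbackComp (hsq a).isoPullback.hom (pullback.fst _ _)).app G ≪≫
        eqToIso (congrArg (fun r => (Scheme.Modules.pullback r).obj G) (hsq a).isoPullback_hom_fst)) ?_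
    exact FlatBC5.isFlatOver_of_baseChange hsq' (QCoh.isQCoh_pullback _ hG.1) (hflat a)
  · let x := t (IsLocalRing.closedPoint k)
    have hex : ∃ a : Fin r, x ∈ (I a.castSucc).support ∧ x ∉ (I a.succ).support := by
      by_contra hcon
      push Not at hcon
      have : ∀ b : Fin (r + 1), x ∈ (I b).support := fun b => by
        induction b using Fin.induction with
        | zero => rw [← SetLike.mem_coe, hfirst]; trivial
        | succ b ih => exact hcon b ih
      have := this (Fin.last r)
      rw [hlast, Scheme.IdealSheafData.support_top] at this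
      exact this
    obtain ⟨a, ha, ha'⟩ := hex
    obtain ⟨z, hz⟩ : x ∈ Set.range (I a.castSucc).subschemeι := by
      rw [Scheme.IdealSheafData.range_subschemeι]; exact ha
    have hzU : z ∈ (I a.castSucc).subschemeι ⁻¹ᵁ (I a.succ).support.compl := by
      show (I a.castSucc).subschemeι z ∈ (I a.succ).support.compl
      rw [hz]; exact ha'
    let y : ((I a.castSucc).subschemeι ⁻¹ᵁ (I a.succ).support.compl).toScheme := ⟨z, hzU⟩
    have hy : st a y = x := hz
    have hyc : IsClosed ({y} : Set _) := by
      have hemb : Topology.IsEmbedding (st a) := (st a).isEmbedding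
      have hpre : ({y} : Set _) = st a ⁻¹' {x} := by
        ext w
        exact ⟨fun hw => by rw [hw]; exact hy, fun hw => hemb.injective (hw.trans hy.symm)⟩
      rw [hpre]
      exact ((pointEquivClosedPoint q ⟨t, ht⟩).2).preimage (st a).continuous
    have ht' := pointOfClosedPoint_comp (st a ≫ q) y hyc
    let t' := pointOfClosedPoint (st a ≫ q) y hyc
    have htt : t' ≫ st a = t := ext_of_apply_closedPoint_eq q (by rw [Category.assoc]; exact ht') ht
      ((congrArg (st a) (pointOfClosedPoint_apply (st a ≫ q) y hyc _)).trans hy)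
    refine ⟨a, t', ht', ⟨(Scheme.Modules.pullbackComp _ (g a)).app G ≪≫
      eqToIso (congrArg (fun r => (Scheme.Modules.pullback r).obj G) (pullback.hom_ext ?_ ?_))⟩⟩
    · simp [g, Pic13.sliceAt, t']
    · simp only [g, Pic13.sliceAt, Category.assoc, pullback.lift_snd, pullback.lift_snd_assoc]
      rw [htt]

/-- The Euler characteristic takes finitely many values in a coherent family. -/
theorem exists_euler_finset [IsProper π] (d : ℕ) (hd : topologicalKrullDim X ≤ d) {T : Scheme.{u}}
    (q : T ⟶ Spec (CommRingCat.of k)) [LocallyOfFiniteType q] [QuasiCompact q]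
    (G : (Pic13.prodK k X q).Modules) (hG : Coh.IsCoh G) :
    ∃ S : Finset ℤ, ∀ (t : Spec (CommRingCat.of k) ⟶ T) (ht : t ≫ q = 𝟙 _),
      FGA.eulerCharLE k X (Pic13.fibreMod k X q t ht G) d ∈ S := by
  obtain ⟨r, Y, q', hq, hc, G', hG', hfl, hmem⟩ := exists_flat_pieces q G hG
  have key : ∀ a, ∃ S : Finset ℤ, ∀ (t : Spec (CommRingCat.of k) ⟶ Y a) (ht : t ≫ q' a = 𝟙 _),
      FGA.eulerCharLE k X (Pic13.fibreMod k X (q' a) t ht (G' a)) d ∈ S := fun a => by
    haveI := hq a
    haveI := hc a
    choose c W hxW hW using fun x : Y a => exists_euler_nhd d hd (q' a) (G' a) (hG' a) (hfl a) x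
    obtain ⟨s, hs⟩ := isCompact_univ.elim_finite_subcover (fun x => (W x : Set (Y a))) (fun x => (W x).2)
      (fun x _ => Set.mem_iUnion.2 ⟨x, hxW x⟩)
    refine ⟨s.image c, fun t ht => ?_⟩
    obtain ⟨x, hx, htx⟩ := Set.mem_iUnion₂.1 (hs (Set.mem_univ (t (IsLocalRing.closedPoint k))))
    exact Finset.mem_image.2 ⟨x, hx, (hW x t ht htx).symm⟩
  choose S hS using key
  refine ⟨Finset.univ.biUnion S, fun t ht => ?_⟩
  obtain ⟨a, t', ht', ⟨e⟩⟩ := hmem t ht
  rw [← eulerCharLE_congr e d]
  exact Finset.mem_biUnion.2 ⟨a, Finset.mem_univ _, hS a t' ht'⟩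

end Groth.Agent.Pic13Lib
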