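import Groth.Agent.Pic13Lib.Serre
import Groth.Agent.Lib.ProjRegularPn
import Groth.Agent.HilbPoly.Sat

/-!
# Cohomology bounds from a hyperplane-type sequence on projective space
-/

set_option linter.style.haveILetI false
set_option linter.unusedSectionVars false
set_option backward.isDefEq.respectTransparency false
set_option backward.isDefEq.respectTransparency.types false
set_option maxHeartbeats 1000000

universe u

open CategoryTheory CategoryTheory.Limits AlgebraicGeometry TopologicalSpace Opposite MonoidalCategory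
open Groth.Agent.KFlatLib Groth.Agent.PnCoh.Finite

noncomputable section

namespace Groth.Agent.Pic13Lib

open Groth.Agent.PnCoh

variable {k : Type u} [Field k] {n : ℕ}

theorem twFun_twFun (F : (CohB1.ProjSpace n k).Modules) (a b : ℤ) :
    Nonempty ((twFun b).obj ((twFun a).obj F) ≅ (twFun (a + b)).obj F) :=
  ProjRegular.twist_twist_iso F a b

theorem twFun_obj (F : (CohB1.ProjSpace n k).Modules) (d : ℤ) :
    (twFun d).obj F = CohB1.tensorMod F (Twist.twistProjSpace n k d) := rfl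

section Generic

variable {C : Type*} [Category C] [HasZeroMorphisms C] {E : Type*} [Category E] [HasZeroMorphisms E]
  (S : ShortComplex C) (Φ : C ⥤ E) [Φ.PreservesZeroMorphisms]

/-- An isomorphism on the first term, mapped. -/
def mapIso₁ {A : C} (e : S.X₁ ≅ A) : (S.map Φ).X₁ ≅ Φ.obj A := Φ.mapIso e

/-- An isomorphism on the second term, mapped. -/
def mapIso₂ {A : C} (e : S.X₂ ≅ A) : (S.map Φ).X₂ ≅ Φ.obj A := Φ.mapIso e

/-- An isomorphism on the third term, mapped. -/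
def mapIso₃ {A : C} (e : S.X₃ ≅ A) : (S.map Φ).X₃ ≅ Φ.obj A := Φ.mapIso e

end Generic

/-- Surjectivity on sections passes to the next twist when the target is regular. -/
theorem surjective_proj_succ {P Q : (Proj (CohB1.polyGrading n k)).Modules} (ψ : P ⟶ Q)
    (hR : ProjRegular.Reg0 (𝒜 := CohB1.polyGrading n k) Q) (h : Function.Surjective (ψ.app ⊤)) :
    Function.Surjective (((twistF (𝒜 := CohB1.polyGrading n k) (1 : ℤ)).map ψ).app ⊤) := by
  intro z
  have hz : z ∈ ProjRegular.tensors Q 1 := by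
    rw [ProjRegular.tensors_eq_top ProjRegular.coords_mem ProjRegular.coords_cover hR 1 1 (by norm_num)]
    trivial
  induction hz using AddSubgroup.closure_induction with
  | mem y hy =>
    obtain ⟨⟨t, s⟩, rfl⟩ := hy
    obtain ⟨t', ht'⟩ := h t
    refine ⟨InvX.tmul t' s, ?_⟩
    refine (congrArg (fun χ : DCoh.toP.obj P ⊗ DCoh.toP.obj (Twist.twist (CohB1.polyGrading n k) 1) ⟶
        DCoh.toP.obj ((twistF (1 : ℤ)).obj Q) => χ.app (op ⊤) (tm t' s))
      (unitShP_naturality (DCoh.toP.map ψ ▷ DCoh.toP.obj (Twist.twist (CohB1.polyGrading n k) 1)))).symm.trans ?_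
    show InvX.tmul (ψ.app ⊤ t') s = InvX.tmul t s
    rw [ht']
  | zero => exact ⟨0, map_zero _⟩
  | add u v _ _ hu hv =>
    obtain ⟨a, ha⟩ := hu
    obtain ⟨b, hb⟩ := hv
    exact ⟨a + b, by rw [map_add, ha, hb]⟩
  | neg u _ hu =>
    obtain ⟨a, ha⟩ := hu
    exact ⟨-a, by rw [map_neg, ha]⟩

theorem surjective_succ {P Q : (CohB1.ProjSpace n k).Modules} (ψ : P ⟶ Q)
    (hR : ProjRegular.Reg0 (𝒜 := CohB1.polyGrading n k) Q) (h : Function.Surjective (ψ.app ⊤)) :
    Function.Surjective (((twFun 1).map ψ).app ⊤) :=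
  surjective_proj_succ ψ hR h

theorem surjective_app_of_iso {X : Scheme.{u}} {P P' Q Q' : X.Modules} {ψ : P ⟶ Q} {ψ' : P' ⟶ Q'}
    (a : P ≅ P') (b : Q ≅ Q') (w : ψ ≫ b.hom = a.hom ≫ ψ') (h : Function.Surjective (ψ.app ⊤)) :
    Function.Surjective (ψ'.app ⊤) := by
  intro y
  obtain ⟨x, hx⟩ := h (b.inv.app ⊤ y)
  refine ⟨a.hom.app ⊤ x, ?_⟩
  refine (congr($(w).app ⊤ x)).symm.trans ?_
  refine (congrArg (b.hom.app ⊤) hx).trans ?_
  exact congr($(b.inv_hom_id).app ⊤ y)

/-- Naturality of the comparison of double twists. -/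
theorem exists_twFun_succ {P Q : (CohB1.ProjSpace n k).Modules} (ψ : P ⟶ Q) (d : ℤ)
    (h : Function.Surjective (((twFun 1).map ((twFun d).map ψ)).app ⊤)) :
    Function.Surjective (((twFun (d + 1)).map ψ).app ⊤) := by
  obtain ⟨e⟩ := twistProjSpace_tensor k n d 1
  let c := AmpleVan.twComp (Twist.twistProjSpace n k d) (Twist.twistProjSpace n k 1) ≪≫
    (DCoh.tensorBi (X := CohB1.ProjSpace n k)).flip.mapIso e
  exact surjective_app_of_iso (c.app P) (c.app Q) (c.hom.naturality ψ) h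

theorem mapLin_zero_surjective_iff {X : Scheme.{u}} [X.Over (Spec (CommRingCat.of k))] {M N : X.Modules}
    (φ : M ⟶ N) :
    Function.Surjective (mapLin k φ 0) ↔ Function.Surjective (φ.app ⊤) := by
  have key : ∀ x, φ.app ⊤ (Sheaf.H.equiv₀ (Coh.toAb M) isTerminalTop x) =
      Sheaf.H.equiv₀ (Coh.toAb N) isTerminalTop (mapLin k φ 0 x) :=
    fun x => Sheaf.H.equiv₀_naturality isTerminalTop ((QCoh.toAbFunctor X).map φ) x
  constructor
  · intro h y
    obtain ⟨x, hx⟩ := h ((Sheaf.H.equiv₀ (Coh.toAb N) isTerminalTop).symm y)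
    exact ⟨_, (key x).trans ((congrArg _ hx).trans ((Sheaf.H.equiv₀ (Coh.toAb N) isTerminalTop).apply_symm_apply y))⟩
  · intro h x
    obtain ⟨y, hy⟩ := h (Sheaf.H.equiv₀ (Coh.toAb N) isTerminalTop x)
    refine ⟨(Sheaf.H.equiv₀ (Coh.toAb M) isTerminalTop).symm y, (Sheaf.H.equiv₀ (Coh.toAb N) isTerminalTop).injective ?_⟩
    refine (key _).symm.trans ?_
    exact (congrArg _ ((Sheaf.H.equiv₀ (Coh.toAb M) isTerminalTop).apply_symm_apply y)).trans hy

section Bounds

variable {F G : (CohB1.ProjSpace n k).Modules} {S : ShortComplex (CohB1.ProjSpace n k).Modules}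
  (hS : S.ShortExact) (e₁ : S.X₁ ≅ (twFun (-1)).obj F) (e₂ : S.X₂ ≅ F) (e₃ : S.X₃ ≅ G)
  (hF : Coh.IsCoh F) (hG : Coh.IsCoh G) {m : ℤ} (hm : Curv2.IsMRegular k n G m)

include hG hm in
theorem vanish_of_regular {q : ℕ} (hq : 1 ≤ q) {d : ℤ} (hd : m - q ≤ d) :
    Subsingleton (Coh.HH (CohB1.ProjSpace n k) ((twFun d).obj G) q) := by
  rcases le_or_gt q n with hn | hn
  · obtain ⟨e, he⟩ : ∃ e : ℕ, d = m + e - q := ⟨(d + q - m).toNat, by omega⟩
    subst he
    rw [twFun_obj]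
    exact ProjRegular.isMRegular_add hG hm e q hq hn
  · rw [twFun_obj]
    exact ProjRegular.subsingleton_HH_high hG d q hn

include hS e₁ e₂ e₃ in
/-- The twisted sequence. -/
theorem exists_seq (d : ℤ) : ∃ T : ShortComplex (CohB1.ProjSpace n k).Modules, T.ShortExact ∧
    Nonempty (T.X₁ ≅ (twFun (d - 1)).obj F) ∧ Nonempty (T.X₂ ≅ (twFun d).obj F) ∧
    Nonempty (T.X₃ ≅ (twFun d).obj G) := by
  refine ⟨S.map (twFun d), shortExact_twFun d hS, ?_, ⟨mapIso₂ S (twFun d) e₂⟩, ⟨mapIso₃ S (twFun d) e₃⟩⟩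
  obtain ⟨c⟩ := twFun_twFun F (-1) d
  rw [show d - 1 = -1 + d by omega]
  exact ⟨mapIso₁ S (twFun d) e₁ ≪≫ c⟩

include hS e₁ e₂ e₃ hF hG hm in
theorem subsingleton_two_le (q : ℕ) (hq : 2 ≤ q) (d : ℤ) (hd : m - q ≤ d) :
    Subsingleton (Coh.HH (CohB1.ProjSpace n k) ((twFun d).obj F) q) := by
  obtain ⟨d₀, h₀⟩ := serre hF q (by omega)
  suffices h : ∀ (j : ℕ) (d : ℤ), m - q ≤ d → d₀ ≤ d + j →
      Subsingleton (Coh.HH (CohB1.ProjSpace n k) ((twFun d).obj F) q) from
    h (d₀ - d).toNat d hd (by omega)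
  intro j
  induction j with
  | zero => exact fun d _ h => h₀ d (by omega)
  | succ j ih =>
    intro d hd hj
    have hnext := ih (d + 1) (by omega) (by omega)
    obtain ⟨T, hT, ⟨a₁⟩, ⟨a₂⟩, ⟨a₃⟩⟩ := exists_seq hS e₁ e₂ e₃ (d + 1)
    rw [show d + 1 - 1 = d by omega] at a₁
    obtain ⟨q, rfl⟩ : ∃ p, q = p + 1 := ⟨q - 1, by omega⟩
    haveI : Subsingleton (Coh.HH (CohB1.ProjSpace n k) T.X₃ q) :=
      QCoh.subsingleton_HH_of_iso a₃.symm q (vanish_of_regular hG hm (by omega) (by omega))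
    haveI : Subsingleton (Coh.HH (CohB1.ProjSpace n k) T.X₂ (q + 1)) :=
      QCoh.subsingleton_HH_of_iso a₂.symm _ hnext
    refine QCoh.subsingleton_HH_of_iso a₁ _ (subsingleton_of_forall_eq 0 fun x => ?_)
    have hx : x ∈ LinearMap.ker (mapLin k T.f (q + 1)) := LinearMap.mem_ker.2 (Subsingleton.elim _ _)
    rw [CurveCohLib.ker_mapLin_f_succ (A := k) hT q] at hx
    obtain ⟨y, rfl⟩ := hx
    rw [Subsingleton.elim y 0, map_zero]

include hS e₁ e₂ e₃ hF hG hm in
theorem h1_antitone (d : ℤ) (hd : m - 1 ≤ d) :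
    Module.finrank k (Coh.HH (CohB1.ProjSpace n k) ((twFun d).obj F) 1) ≤
      Module.finrank k (Coh.HH (CohB1.ProjSpace n k) ((twFun (d - 1)).obj F) 1) := by
  haveI := isLocallyNoetherian_projSpace k n
  obtain ⟨T, hT, ⟨a₁⟩, ⟨a₂⟩, ⟨a₃⟩⟩ := exists_seq hS e₁ e₂ e₃ d
  rw [← HilbPoly.finrank_HH_iso k a₁ 1, ← HilbPoly.finrank_HH_iso k a₂ 1]
  haveI := projSpace_finite_HH n k T.X₁
    (HilbPoly.isCoh_of_iso a₁.symm (ProjRegular.isCoh_twistBy hF (d - 1))) 1
  haveI : Subsingleton (Coh.HH (CohB1.ProjSpace n k) T.X₃ 1) :=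
    QCoh.subsingleton_HH_of_iso a₃.symm 1 (vanish_of_regular hG hm le_rfl (by omega))
  refine LinearMap.finrank_le_finrank_of_surjective (f := mapLin k T.f 1) fun y => ?_
  have hy : y ∈ LinearMap.ker (mapLin k T.g 1) := LinearMap.mem_ker.2 (Subsingleton.elim _ _)
  rw [CurveCohLib.ker_mapLin_g (A := k) hT 1] at hy
  exact hy

include hS e₁ e₂ e₃ hG hm in
theorem surjective_stays (d : ℤ) (hd : m ≤ d)
    (h : Function.Surjective (((S.map (twFun d)).g).app ⊤)) :
    ∀ j : ℕ, Function.Surjective (((S.map (twFun (d + j))).g).app ⊤) := by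
  intro j
  induction j with
  | zero => rw [Nat.cast_zero, add_zero]; exact h
  | succ j ih =>
    have hR : ProjRegular.Reg0 (𝒜 := CohB1.polyGrading n k) (S.map (twFun (d + j))).X₃ := by
      intro q hq
      obtain ⟨c⟩ := ProjRegular.twist_twist_iso (k := k) G (d + j) (-(q : ℤ))
      refine QCoh.subsingleton_HH_of_iso
        (((twFun (-(q : ℤ))).mapIso (mapIso₃ S (twFun (d + j)) e₃) ≪≫ c).symm) q ?_
      exact vanish_of_regular hG hm hq (by omega)
    rw [show d + ((j + 1 : ℕ) : ℤ) = d + j + 1 by omega]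
    exact exists_twFun_succ S.g _ (surjective_succ _ hR ih)

theorem finrank_le_of_surjective_g {X : Scheme.{u}} [X.Over (Spec (CommRingCat.of k))]
    {T : ShortComplex X.Modules} (hT : T.ShortExact) (hfin : Module.Finite k (Coh.HH X T.X₂ 1))
    (hs : Function.Surjective (T.g.app ⊤)) :
    Module.finrank k (Coh.HH X T.X₁ 1) ≤ Module.finrank k (Coh.HH X T.X₂ 1) := by
  refine LinearMap.finrank_le_finrank_of_injective (f := mapLin k T.f 1) (LinearMap.ker_eq_bot.1 ?_)
  rw [CurveCohLib.ker_mapLin_f_succ (A := k) hT 0, LinearMap.range_eq_bot, ← LinearMap.ker_eq_top,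
    CurveCohLib.ker_deltaLin (A := k) hT 0]
  exact LinearMap.range_eq_top.2 ((mapLin_zero_surjective_iff T.g).2 hs)

theorem surjective_g_of_finrank_eq {X : Scheme.{u}} [X.Over (Spec (CommRingCat.of k))]
    {T : ShortComplex X.Modules} (hT : T.ShortExact) (hfin : Module.Finite k (Coh.HH X T.X₁ 1))
    (hfin' : Module.Finite k (Coh.HH X T.X₂ 1)) (h3 : Subsingleton (Coh.HH X T.X₃ 1))
    (hdim : Module.finrank k (Coh.HH X T.X₁ 1) = Module.finrank k (Coh.HH X T.X₂ 1)) :
    Function.Surjective (T.g.app ⊤) := by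
  have hsur : Function.Surjective (mapLin k T.f 1) := fun y => by
    have hy : y ∈ LinearMap.ker (mapLin k T.g 1) := LinearMap.mem_ker.2 (h3.elim _ _)
    rw [CurveCohLib.ker_mapLin_g (A := k) hT 1] at hy
    exact hy
  have hinj := (LinearMap.injective_iff_surjective_of_finrank_eq_finrank hdim).2 hsur
  rw [← mapLin_zero_surjective_iff (k := k), ← LinearMap.range_eq_top, ← CurveCohLib.ker_deltaLin (A := k) hT 0,
    LinearMap.ker_eq_top, ← LinearMap.range_eq_bot, ← CurveCohLib.ker_mapLin_f_succ (A := k) hT 0]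
  exact LinearMap.ker_eq_bot.2 hinj

include hS e₁ e₂ e₃ hF hG hm in
theorem h1_drop (d : ℤ) (hd : m ≤ d) :
    Module.finrank k (Coh.HH (CohB1.ProjSpace n k) ((twFun d).obj F) 1) ≤
      Module.finrank k (Coh.HH (CohB1.ProjSpace n k) ((twFun (d - 1)).obj F) 1) - 1 := by
  haveI := isLocallyNoetherian_projSpace k n
  have hle := h1_antitone hS e₁ e₂ e₃ hF hG hm d (by omega)
  by_contra hlt
  have heq : Module.finrank k (Coh.HH (CohB1.ProjSpace n k) ((twFun d).obj F) 1) =
      Module.finrank k (Coh.HH (CohB1.ProjSpace n k) ((twFun (d - 1)).obj F) 1) := by omega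
  have hstep : ∀ e : ℤ, Function.Surjective (((S.map (twFun e)).g).app ⊤) → m - 1 ≤ e →
      Module.finrank k (Coh.HH (CohB1.ProjSpace n k) ((twFun (e - 1)).obj F) 1) ≤
        Module.finrank k (Coh.HH (CohB1.ProjSpace n k) ((twFun e).obj F) 1) := by
    intro e hs he
    let T := S.map (twFun e)
    have hT : T.ShortExact := shortExact_twFun e hS
    obtain ⟨c⟩ := twFun_twFun F (-1) e
    let a₁ : T.X₁ ≅ (twFun (-1 + e)).obj F := mapIso₁ S (twFun e) e₁ ≪≫ c
    let a₂ : T.X₂ ≅ (twFun e).obj F := mapIso₂ S (twFun e) e₂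
    rw [show e - 1 = -1 + e by omega, ← HilbPoly.finrank_HH_iso k a₁ 1, ← HilbPoly.finrank_HH_iso k a₂ 1]
    exact finrank_le_of_surjective_g hT
      (projSpace_finite_HH n k T.X₂ (HilbPoly.isCoh_of_iso a₂.symm (ProjRegular.isCoh_twistBy hF e)) 1) hs
  have hs0 : Function.Surjective (((S.map (twFun d)).g).app ⊤) := by
    let T := S.map (twFun d)
    have hT : T.ShortExact := shortExact_twFun d hS
    obtain ⟨c⟩ := twFun_twFun F (-1) d
    let a₁ : T.X₁ ≅ (twFun (-1 + d)).obj F := mapIso₁ S (twFun d) e₁ ≪≫ c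
    let a₂ : T.X₂ ≅ (twFun d).obj F := mapIso₂ S (twFun d) e₂
    refine surjective_g_of_finrank_eq hT
      (projSpace_finite_HH n k T.X₁ (HilbPoly.isCoh_of_iso a₁.symm (ProjRegular.isCoh_twistBy hF _)) 1)
      (projSpace_finite_HH n k T.X₂ (HilbPoly.isCoh_of_iso a₂.symm (ProjRegular.isCoh_twistBy hF d)) 1)
      (QCoh.subsingleton_HH_of_iso (mapIso₃ S (twFun d) e₃).symm 1 (vanish_of_regular hG hm le_rfl (by omega))) ?_
    rw [HilbPoly.finrank_HH_iso k a₁ 1, HilbPoly.finrank_HH_iso k a₂ 1, show -1 + d = d - 1 by omega, heq]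
  have hgrow : ∀ j : ℕ, Module.finrank k (Coh.HH (CohB1.ProjSpace n k) ((twFun (d - 1)).obj F) 1) ≤
      Module.finrank k (Coh.HH (CohB1.ProjSpace n k) ((twFun (d + j)).obj F) 1) := by
    intro j
    induction j with
    | zero => rw [Nat.cast_zero, add_zero]; omega
    | succ j ih =>
      have := hstep (d + ((j + 1 : ℕ) : ℤ)) (surjective_stays hS e₁ e₂ e₃ hG hm d hd hs0 _) (by omega)
      rw [show d + ((j + 1 : ℕ) : ℤ) - 1 = d + j by omega] at this
      omega
  obtain ⟨d₀, h₀⟩ := serre hF 1 one_pos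
  haveI : Subsingleton (Coh.HH (CohB1.ProjSpace n k) ((twFun (d + (d₀ - d).toNat)).obj F) 1) :=
    h₀ (d + (d₀ - d).toNat) (by omega)
  have := hgrow (d₀ - d).toNat
  rw [Module.finrank_zero_of_subsingleton (R := k)
    (M := Coh.HH (CohB1.ProjSpace n k) ((twFun (d + (d₀ - d).toNat)).obj F) 1)] at this
  omega

include hS e₁ e₂ e₃ hF hG hm in
theorem h1_vanish (d : ℤ)
    (hd : (m - 1) + (Module.finrank k (Coh.HH (CohB1.ProjSpace n k) ((twFun (m - 1)).obj F) 1) : ℤ) ≤ d) :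
    Subsingleton (Coh.HH (CohB1.ProjSpace n k) ((twFun d).obj F) 1) := by
  haveI := isLocallyNoetherian_projSpace k n
  haveI := projSpace_finite_HH n k ((twFun d).obj F) (ProjRegular.isCoh_twistBy hF d) 1
  have key : ∀ j : ℕ, Module.finrank k (Coh.HH (CohB1.ProjSpace n k) ((twFun (m - 1 + j)).obj F) 1) ≤
      Module.finrank k (Coh.HH (CohB1.ProjSpace n k) ((twFun (m - 1)).obj F) 1) - j := by
    intro j
    induction j with
    | zero => rw [Nat.cast_zero, add_zero, Nat.sub_zero]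
    | succ j ih =>
      have := h1_drop hS e₁ e₂ e₃ hF hG hm (m - 1 + ((j + 1 : ℕ) : ℤ)) (by omega)
      rw [show m - 1 + ((j + 1 : ℕ) : ℤ) - 1 = m - 1 + j by omega] at this
      omega
  have := key (d - (m - 1)).toNat
  rw [show m - 1 + ((d - (m - 1)).toNat : ℤ) = d by omega] at this
  exact (Module.finrank_zero_iff (R := k)).1 (by omega)

end Bounds

end Groth.Agent.Pic13Lib
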