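import Groth.Agent.Pic13Lib.EulerFamily
import Groth.Agent.H23.InvStalk
import Groth.Agent.AssLib.FlatField
import Groth.Agent.SurfInt.Basic
import Groth.Agent.S3230

/-!
# The Euler characteristic is invariant under algebraic and τ-equivalence
-/

set_option backward.isDefEq.respectTransparency false
set_option backward.isDefEq.respectTransparency.types false
set_option linter.style.haveILetI false
set_option maxHeartbeats 1000000

universe u

open CategoryTheory CategoryTheory.Limits AlgebraicGeometry TopologicalSpace Opposite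
open scoped TensorProduct

namespace Groth.Agent.Pic13Lib

open Groth.Agent
open scoped Groth.Agent.H23.PicMul

variable {k : Type u} [Field k] {X : Scheme.{u}} [X.Over (Spec (CommRingCat.of k))]

local notation "π" => (X ↘ Spec (CommRingCat.of k))

omit [X.Over (Spec (CommRingCat.of k))] in
/-- Every module is flat over a field. -/
theorem isFlatOver_field (f : X ⟶ Spec (CommRingCat.of k)) (F : X.Modules) : FlatMod.IsFlatOver f F := fun x => by
  letI hF : IsField ((Spec (CommRingCat.of k)).presheaf.stalk (f x)) :=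
    ⟨⟨0, 1, zero_ne_one⟩, mul_comm, fun {a} ha =>
      isUnit_iff_exists_inv.1 ((FlatDvr.eq_zero_or_isUnit_stalk_field k _ a).resolve_left ha)⟩
  letI := hF.toField
  show FlatMod.IsFlatOverAt f F x
  unfold FlatMod.IsFlatOverAt
  infer_instance

omit [X.Over (Spec (CommRingCat.of k))] in
/-- Tensoring with an invertible module preserves flatness over the base. -/
theorem isFlatOver_tensor {S : Scheme.{u}} (f : X ⟶ S) {G N : X.Modules} (hN : PicF.IsInvertible N)
    (h : FlatMod.IsFlatOver f G) : FlatMod.IsFlatOver f (CohB1.tensorMod G N) := fun x => by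
  obtain ⟨e⟩ := H23.InvStalk.exists_stalk_equiv hN x
  let i : (CohB1.tensorMod G N).presheaf.stalk x ≃ₗ[X.presheaf.stalk x] G.presheaf.stalk x :=
    (KFlatLib.stalkTensorIso x G N).toLinearEquiv.symm.trans
      ((TensorProduct.congr (LinearEquiv.refl _ _) e).trans (TensorProduct.rid _ _))
  show FlatMod.IsFlatOverAt f (CohB1.tensorMod G N) x
  unfold FlatMod.IsFlatOverAt
  letI := FlatMod.moduleStalkOver f (CohB1.tensorMod G N) x
  letI := FlatMod.moduleStalkOver f G x
  haveI : Module.Flat (S.presheaf.stalk (f x)) (G.presheaf.stalk x) := h x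
  let i' : (CohB1.tensorMod G N).presheaf.stalk x ≃ₗ[S.presheaf.stalk (f x)] G.presheaf.stalk x :=
    { toFun := i
      invFun := i.symm
      left_inv := i.left_inv
      right_inv := i.right_inv
      map_add' := i.map_add
      map_smul' := fun r m => i.map_smul ((f.stalkMap x).hom r) m }
  exact Module.Flat.of_linearEquiv i'

theorem eulerCharLE_congr {A B : X.Modules} (e : A ≅ B) (d : ℕ) :
    FGA.eulerCharLE k X A d = FGA.eulerCharLE k X B d :=
  Finset.sum_congr rfl fun i _ => by
    rw [LinearEquiv.finrank_eq (LinearEquiv.ofBijective (PnCoh.Finite.mapLin (A := k) e.hom i)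
      (ConcreteCategory.bijective_of_isIso ((CohIII.HAb X i).map e.hom)))]

variable (k) in
/-- `A ↦ χ(F ⊗ A)` on classes. -/
noncomputable def chiT (F : X.Modules) (d : ℕ) : PicF.Cl X → ℤ :=
  Quot.lift (fun A => FGA.eulerCharLE k X (CohB1.tensorMod F A) d) fun _ _ ⟨e⟩ =>
    eulerCharLE_congr (PicGrp.tensorModIso (Iso.refl F) e) d

theorem chiT_cl (F A : X.Modules) (d : ℕ) :
    chiT k F d (PicF.cl A) = FGA.eulerCharLE k X (CohB1.tensorMod F A) d := rfl

theorem chiT_one (F : X.Modules) (d : ℕ) : chiT k F d 1 = FGA.eulerCharLE k X F d :=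
  eulerCharLE_congr (H23.PicMul.unit F).some d

theorem chiT_mul (F A : X.Modules) (d : ℕ) (c : PicF.Cl X) :
    chiT k (CohB1.tensorMod F A) d c = chiT k F d (PicF.cl A * c) := by
  induction c using Quot.ind with
  | mk B => exact eulerCharLE_congr (H23.PicMul.assoc F A B).some d

variable [IsAlgClosed k]

/-- Powers of a module algebraically equivalent to zero do not change the Euler characteristic. -/
theorem chiT_pow_of_isAlgEquivZero [IsProper π] (d : ℕ) (hd : topologicalKrullDim X ≤ d) {L : X.Modules}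
    (h : Pic13.IsAlgEquivZero k X L) {F : X.Modules} (hF : Coh.IsCoh F) (m : ℕ) :
    chiT k F d (PicF.cl L ^ m) = chiT k F d 1 := by
  obtain ⟨T, q, h1, h2, h3, M, hM, t, t₀, ht, ht₀, ⟨a⟩, ⟨b⟩⟩ := h
  haveI : IsLocallyNoetherian X := LocallyOfFiniteType.isLocallyNoetherian π
  haveI : IsLocallyNoetherian T := LocallyOfFiniteType.isLocallyNoetherian q
  haveI : IsLocallyNoetherian (Pic13.prodK k X q) := LocallyOfFiniteType.isLocallyNoetherian (pullback.snd π q)
  let F' := (Scheme.Modules.pullback (pullback.fst π q)).obj F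
  have hN := H23.PicMul.isInvertible_tensorPow hM m
  let G := CohB1.tensorMod F' (CohB1.tensorPow M m)
  have hF' : Coh.IsCoh F' := ZClosLib.isCoh_pullback _ hF
  have hG : Coh.IsCoh G := AmpleVan.isCoh_tensor hF' (AmpleVan.isCoh_invertible hN)
  have hfl : FlatMod.IsFlatOver (pullback.snd π q) G := isFlatOver_tensor _ hN
    (FlatBC5.isFlatOver_of_baseChange (IsPullback.of_hasPullback π q) hF.1 (isFlatOver_field π F))
  have key : ∀ (s : Spec (CommRingCat.of k) ⟶ T) (hs : s ≫ q = 𝟙 _) (A : X.Modules),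
      (Pic13.fibreMod k X q s hs M ≅ A) →
      FGA.eulerCharLE k X (Pic13.fibreMod k X q s hs G) d = chiT k F d (PicF.cl A ^ m) := by
    intro s hs A eA
    let g := Pic13.sliceAt k X q s hs
    let eF : (Scheme.Modules.pullback g).obj F' ≅ F :=
      (Scheme.Modules.pullbackComp g (pullback.fst π q)).app F ≪≫
        eqToIso (congrArg (fun r => (Scheme.Modules.pullback r).obj F) (pullback.lift_fst _ _ _)) ≪≫
        (Scheme.Modules.pullbackId X).app F
    have ec : PicF.cl ((Scheme.Modules.pullback g).obj (CohB1.tensorPow M m)) = PicF.cl A ^ m := by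
      rw [← H23.PicMul.cl_eq_iff.2 ⟨eA⟩]
      calc PicF.cl ((Scheme.Modules.pullback g).obj (CohB1.tensorPow M m))
          = PicF.pullCl g (PicF.cl (CohB1.tensorPow M m)) := rfl
        _ = PicF.pullCl g (PicF.cl M ^ m) := by rw [H23.PicMul.cl_tensorPow]
        _ = _ := H23.PicMul.pullCl_pow g _ m
    rw [← ec, chiT_cl]
    exact eulerCharLE_congr ((H23.PicMul.pull g F' (CohB1.tensorPow M m)).some ≪≫
      PicGrp.tensorModIso eF (Iso.refl _)) d
  rw [← key t ht L a, show chiT k F d (1 : PicF.Cl X) = chiT k F d (PicF.cl (Coh.structureModule X) ^ m) by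
    rw [← H23.PicMul.one_def, one_pow], ← key t₀ ht₀ _ b]
  exact euler_fibre_eq d hd q G hG hfl t t₀ ht ht₀

/-- A module τ-equivalent to zero does not change the Euler characteristic. -/
theorem chiT_pow_of_isTauEquivZero [IsProper π] (d : ℕ) (hd : topologicalKrullDim X ≤ d) {L : X.Modules}
    (hL : PicF.IsInvertible L) (h : Pic13.IsTauEquivZero k X L) {F : X.Modules} (hF : Coh.IsCoh F) (m : ℕ) :
    chiT k F d (PicF.cl L ^ m) = chiT k F d 1 := by
  obtain ⟨n, hn, hn'⟩ := h
  obtain ⟨P, -, hP⟩ := Groth.Agent.S3230.result k X d hd (fun _ : Fin 1 => L) (fun _ => hL) F hF d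
    (SurfInt.dim_support_le hd F)
  have hval : ∀ j : ℕ, (chiT k F d (PicF.cl L ^ j) : ℚ) = MvPolynomial.eval (fun _ => (j : ℚ)) P := fun j => by
    refine Eq.trans ?_ (hP fun _ => j)
    congr 1
    rw [show PicF.cl L ^ j = PicF.cl (FGA.multiTwist (fun _ : Fin 1 => L) fun _ => j) by
      rw [SurfInt.cl_multiTwist]; simp]
    exact eulerCharLE_congr (H23.PicMul.comm _ _).some d
  let Q : Polynomial ℚ := MvPolynomial.aeval (fun _ : Fin 1 => Polynomial.X) P -
    Polynomial.C ((chiT k F d 1 : ℤ) : ℚ)
  have hQ : ∀ j : ℕ, Q.eval (j : ℚ) = (chiT k F d (PicF.cl L ^ j) : ℚ) - (chiT k F d 1 : ℚ) := fun j => by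
    rw [hval j, Polynomial.eval_sub, Polynomial.eval_C]
    congr 1
    rw [← Polynomial.coe_aeval_eq_eval, ← AlgHom.comp_apply, MvPolynomial.comp_aeval]
    simp [MvPolynomial.aeval_eq_eval]
  have hQ0 : Q = 0 := by
    refine Polynomial.eq_zero_of_infinite_isRoot Q ?_
    refine Set.infinite_of_injective_forall_mem (f := fun j : ℕ => ((n * j : ℕ) : ℚ))
      (fun a b hab => by
        have : n * a = n * b := Nat.cast_injective (R := ℚ) hab
        exact Nat.eq_of_mul_eq_mul_left hn this) fun j => ?_
    show Q.eval _ = 0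
    rw [hQ, pow_mul, ← H23.PicMul.cl_tensorPow, chiT_pow_of_isAlgEquivZero d hd hn' hF j, sub_self]
  have := hQ m
  rw [hQ0, Polynomial.eval_zero] at this
  exact_mod_cast (sub_eq_zero.1 this.symm)

end Groth.Agent.Pic13Lib
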