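import Groth.Agent.Pic13Lib.Tau
import Groth.Agent.Lib.AVDual

/-!
# Consequences of the invariance of the Euler characteristic under τ-equivalence
-/

set_option backward.isDefEq.respectTransparency false
set_option backward.isDefEq.respectTransparency.types false
set_option linter.style.haveILetI false

universe u

open CategoryTheory CategoryTheory.Limits AlgebraicGeometry

namespace Groth.Agent.Pic13Lib

open Groth.Agent
open scoped Groth.Agent.H23.PicMul

variable {k : Type u} [Field k] [IsAlgClosed k]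

/-- τ-equivalence to zero is stable under pullback. -/
theorem tauEquivZero_pullback {X Y : Scheme.{u}} (p : X ⟶ Spec (CommRingCat.of k))
    (p' : Y ⟶ Spec (CommRingCat.of k)) (f : Y ⟶ X) (hf : f ≫ p = p') {L : X.Modules}
    (h : @Pic13.IsTauEquivZero k _ X ⟨p⟩ L) :
    @Pic13.IsTauEquivZero k _ Y ⟨p'⟩ ((Scheme.Modules.pullback f).obj L) := by
  obtain ⟨n, hn, hn'⟩ := h
  refine ⟨n, hn, @AVDual.algEquivZero_of_iso k _ Y ⟨p'⟩ _ _ ?_ (AVDual.algEquivZero_pullback p p' f hf hn')⟩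
  refine (H23.PicMul.cl_eq_iff.1 ?_).some
  calc PicF.cl ((Scheme.Modules.pullback f).obj (CohB1.tensorPow L n))
      = PicF.pullCl f (PicF.cl (CohB1.tensorPow L n)) := rfl
    _ = PicF.pullCl f (PicF.cl L) ^ n := by rw [H23.PicMul.cl_tensorPow, H23.PicMul.pullCl_pow]
    _ = _ := (H23.PicMul.cl_tensorPow _ n).symm

variable {X : Scheme.{u}} [X.Over (Spec (CommRingCat.of k))]

/-- Negative powers as well. -/
theorem chiT_pow_inv [IsProper (X ↘ Spec (CommRingCat.of k))] (d : ℕ) (hd : topologicalKrullDim X ≤ d)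
    {L L' : X.Modules} (hL : PicF.IsInvertible L) (hL' : PicF.IsInvertible L')
    (e : PicF.cl L * PicF.cl L' = 1) (h : Pic13.IsTauEquivZero k X L) {F : X.Modules} (hF : Coh.IsCoh F)
    (m : ℕ) : chiT k F d (PicF.cl L' ^ m) = chiT k F d 1 := by
  haveI : IsLocallyNoetherian X := LocallyOfFiniteType.isLocallyNoetherian (X ↘ Spec (CommRingCat.of k))
  have hcoh : Coh.IsCoh (CohB1.tensorMod F (CohB1.tensorPow L' m)) :=
    AmpleVan.isCoh_tensor hF (AmpleVan.isCoh_invertible (H23.PicMul.isInvertible_tensorPow hL' m))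
  have := chiT_pow_of_isTauEquivZero d hd hL h hcoh m
  rw [chiT_mul, chiT_mul, mul_one, H23.PicMul.cl_tensorPow, ← mul_pow, mul_comm, e, one_pow] at this
  exact this.symm

/-- `χ(F ⊗ L^m) = χ(F)`. -/
theorem euler_tensorPow_eq [IsProper (X ↘ Spec (CommRingCat.of k))] (d : ℕ) (hd : topologicalKrullDim X ≤ d)
    {L : X.Modules} (hL : PicF.IsInvertible L) (h : Pic13.IsTauEquivZero k X L) {F : X.Modules}
    (hF : Coh.IsCoh F) (m : ℕ) :
    FGA.eulerCharLE k X (CohB1.tensorMod F (CohB1.tensorPow L m)) d = FGA.eulerCharLE k X F d := by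
  have := chiT_pow_of_isTauEquivZero d hd hL h hF m
  rwa [← H23.PicMul.cl_tensorPow, chiT_cl, chiT_one] at this

/-- `χ(F ⊗ L) = χ(F)`. -/
theorem euler_tensor_eq [IsProper (X ↘ Spec (CommRingCat.of k))] (d : ℕ) (hd : topologicalKrullDim X ≤ d)
    {L : X.Modules} (hL : PicF.IsInvertible L) (h : Pic13.IsTauEquivZero k X L) {F : X.Modules}
    (hF : Coh.IsCoh F) : FGA.eulerCharLE k X (CohB1.tensorMod F L) d = FGA.eulerCharLE k X F d := by
  have := chiT_pow_of_isTauEquivZero d hd hL h hF 1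
  rwa [pow_one, chiT_cl, chiT_one] at this

/-- `χ(F ⊗ L'^m) = χ(F)` for the inverse `L'`. -/
theorem euler_tensorPow_inv_eq [IsProper (X ↘ Spec (CommRingCat.of k))] (d : ℕ) (hd : topologicalKrullDim X ≤ d)
    {L L' : X.Modules} (hL : PicF.IsInvertible L) (hL' : PicF.IsInvertible L')
    (e : CohB1.tensorMod L L' ≅ Coh.structureModule X) (h : Pic13.IsTauEquivZero k X L) {F : X.Modules}
    (hF : Coh.IsCoh F) (m : ℕ) :
    FGA.eulerCharLE k X (CohB1.tensorMod F (CohB1.tensorPow L' m)) d = FGA.eulerCharLE k X F d := by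
  have := chiT_pow_inv d hd hL hL' (H23.PicMul.cl_eq_iff.2 ⟨e⟩) h hF m
  rwa [← H23.PicMul.cl_tensorPow, chiT_cl, chiT_one] at this

end Groth.Agent.Pic13Lib
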